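import Groth.Agent.Divis.WeakAss
import Groth.Agent.Divis.StalkMod
import Groth.Agent.Dcoh.StalkMod
import Groth.Agent.PerfA.QCohSerre
import Groth.Prelude.Def_CAlg
import Mathlib.AlgebraicGeometry.Noetherian

/-!
# Morphisms of quasi-coherent modules: injectivity off weakly associated points, isomorphy in depth two
-/

set_option autoImplicit false
universe u
open CategoryTheory CategoryTheory.Limits AlgebraicGeometry TopologicalSpace
open Groth.Agent.Divis.WeakAss Groth.Agent.Fdesc.QCohStalk Groth.Agent.CycB.StalkExact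

namespace K472.DepthIso

section Alg

variable {R : Type*} [CommRing R] [IsLocalRing R] {F G : Type*}
  [AddCommGroup F] [Module R F] [AddCommGroup G] [Module R G]

open RingTheory.Sequence

/-- Depth at least two gives a weakly regular sequence of length two in the maximal ideal, or the module
is killed by Nakayama. -/
theorem exists_isWeaklyRegular_pair [Module.Finite R F] (h : (2 : ℕ∞) ≤ LocCoh.depth R F) :
    Subsingleton F ∨ ∃ u ∈ IsLocalRing.maximalIdeal R, ∃ v ∈ IsLocalRing.maximalIdeal R,
      IsWeaklyRegular F [u, v] := by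
  by_cases hne : IsLocalRing.maximalIdeal R • (⊤ : Submodule R F) = ⊤
  · left
    have h1 : (⊤ : Submodule R F) ≤ ⊥ :=
      (Submodule.le_of_le_smul_of_le_jacobson_bot (Module.Finite.fg_top (R := R) (M := F))
        (IsLocalRing.maximalIdeal_le_jacobson ⊥) (by rw [hne]; exact le_sup_right))
    refine ⟨fun a b => ?_⟩
    have ha : a ∈ (⊥ : Submodule R F) := h1 trivial
    have hb : b ∈ (⊥ : Submodule R F) := h1 trivial
    rw [Submodule.mem_bot] at ha hb
    rw [ha, hb]
  · right
    rw [LocCoh.depth, LocCoh.idealDepth, if_neg hne] at h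
    have h' : ¬ (⨆ (rs : List R) (_ : IsWeaklyRegular F rs ∧ ∀ r ∈ rs, r ∈ IsLocalRing.maximalIdeal R),
        (rs.length : ℕ∞)) ≤ 1 := by
      intro hle
      exact absurd (h.trans hle) (by decide)
    simp only [iSup_le_iff, not_forall] at h'
    obtain ⟨rs, ⟨h1, h2⟩, h3⟩ := h'
    have h4 : 2 ≤ rs.length := by
      by_contra hlt
      apply h3
      have : rs.length ≤ 1 := by omega
      exact_mod_cast this
    match rs, h4 with
    | u :: v :: rs, _ =>
      refine ⟨u, h2 u (by simp), v, h2 v (by simp), ?_⟩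
      rw [isWeaklyRegular_cons_iff, isWeaklyRegular_cons_iff] at h1
      rw [isWeaklyRegular_cons_iff, isWeaklyRegular_cons_iff]
      exact ⟨h1.1, h1.2.1, IsWeaklyRegular.nil _ _⟩

/-- If `0 → F → G → C` is exact with `F` of depth at least two and `c ≠ 0` in `C` is a class of an element of `G`
killed by the maximal ideal, then `G` has a nonzero element killed by the maximal ideal. -/
theorem exists_killed [Module.Finite R F] (h : (2 : ℕ∞) ≤ LocCoh.depth R F) (i : F →ₗ[R] G)
    (hi : Function.Injective i) (g : G) (hg : g ∉ Set.range i)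
    (hm : ∀ a ∈ IsLocalRing.maximalIdeal R, a • g ∈ Set.range i) :
    ∃ g' : G, g' ≠ 0 ∧ ∀ a ∈ IsLocalRing.maximalIdeal R, a • g' = 0 := by
  rcases exists_isWeaklyRegular_pair h with hs | ⟨u, hu, v, hv, hreg⟩
  · refine ⟨g, fun h0 => hg ⟨0, by rw [map_zero, h0]⟩, fun a ha => ?_⟩
    obtain ⟨f, hf⟩ := hm a ha
    rw [← hf, Subsingleton.elim f 0, map_zero]
  · rw [isWeaklyRegular_cons_iff, isWeaklyRegular_cons_iff] at hreg
    obtain ⟨h1, h2, -⟩ := hreg
    obtain ⟨a, ha⟩ := hm u hu
    obtain ⟨b, hb⟩ := hm v hv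
    have hab : v • a = u • b := by
      apply hi
      rw [map_smul, map_smul, ha, hb, smul_comm]
    have h4 : (Submodule.Quotient.mk a : QuotSMulTop u F) = 0 := by
      apply h2
      simp only [smul_zero]
      rw [← Submodule.Quotient.mk_smul, Submodule.Quotient.mk_eq_zero, hab]
      exact Submodule.smul_mem_pointwise_smul b u ⊤ trivial
    rw [Submodule.Quotient.mk_eq_zero] at h4
    obtain ⟨c, -, hc⟩ := h4
    have hc' : u • c = a := hc
    refine ⟨g - i c, fun h0 => hg ⟨c, (sub_eq_zero.mp h0).symm⟩, fun r hr => ?_⟩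
    obtain ⟨f, hf⟩ := hm r hr
    have h5 : r • (g - i c) = i (f - r • c) := by
      rw [smul_sub, map_sub, hf, map_smul]
    have h6 : u • (f - r • c) = 0 := by
      apply hi
      rw [map_smul, ← h5, map_zero, smul_comm, smul_sub, ← ha, ← hc', map_smul, sub_self, smul_zero]
    have h7 : f - r • c = 0 := by
      apply h1
      simp only [smul_zero]
      exact h6
    rw [h5, h7, map_zero]

/-- Over a Noetherian local ring an element on which the maximal ideal is nilpotent has a nonzero multiple killed
by the maximal ideal. -/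
theorem exists_smul_killed [IsNoetherianRing R] (g : G) (hg : g ≠ 0)
    (hm : ∀ a ∈ IsLocalRing.maximalIdeal R, ∃ n : ℕ, a ^ n • g = 0) :
    ∃ b : R, b • g ≠ 0 ∧ ∀ a ∈ IsLocalRing.maximalIdeal R, a • (b • g) = 0 := by
  have hle : IsLocalRing.maximalIdeal R ≤ (ann R g).radical := by
    intro a ha
    obtain ⟨n, hn⟩ := hm a ha
    exact ⟨n, mem_ann.mpr hn⟩
  obtain ⟨n, hn⟩ := Ideal.exists_pow_le_of_le_radical_of_fg hle (IsNoetherian.noetherian _)
  have hex : ∃ n : ℕ, ∀ a ∈ IsLocalRing.maximalIdeal R ^ n, a • g = 0 :=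
    ⟨n, fun a ha => mem_ann.mp (hn ha)⟩
  classical
  let N := Nat.find hex
  have hN : ∀ a ∈ IsLocalRing.maximalIdeal R ^ N, a • g = 0 := Nat.find_spec hex
  have hN0 : N ≠ 0 := by
    intro h0
    apply hg
    have := hN 1 (by rw [h0, pow_zero, Ideal.one_eq_top]; exact Submodule.mem_top)
    rwa [one_smul] at this
  obtain ⟨k, hk⟩ := Nat.exists_eq_succ_of_ne_zero hN0
  have hk' : ¬ ∀ a ∈ IsLocalRing.maximalIdeal R ^ k, a • g = 0 :=
    Nat.find_min hex (by change k < N; omega)
  push Not at hk'
  obtain ⟨b, hb, hbg⟩ := hk'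
  refine ⟨b, hbg, fun a ha => ?_⟩
  rw [← mul_smul]
  apply hN
  rw [hk, pow_succ']
  exact Ideal.mul_mem_mul ha hb

end Alg

section Scheme

variable {X : Scheme.{u}} {F G : X.Modules} (φ : F ⟶ G)

/-- Injectivity of a map of quasi-coherent modules may be checked at the weakly associated points of the source. -/
theorem mono_of_weakAss (hF : Coh.IsQCoh F) (hG : Coh.IsQCoh G)
    (h : ∀ x : X, Curv2.IsWeakAssPoint F x → Function.Injective (stalkLin φ x)) : Mono φ := by
  refine Groth.Agent.Dcoh.StalkMod.mono_of_injective φ fun x => ?_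
  rw [injective_iff_map_eq_zero]
  intro m hm
  obtain ⟨U, hU, hx⟩ := Groth.Agent.Divis.StalkMod.exists_affine x
  obtain ⟨g, s, hg, hs⟩ := exists_germ_eq_smul F hU hF x hx m
  have h1 : G.presheaf.germ U x hx (φ.app U s) = 0 := by
    rw [← stalkLin_germ, hs, map_smul, hm, smul_zero]
  obtain ⟨g', hg', h2⟩ := exists_smul_eq_zero_of_germ_eq_zero G hU hG x hx _ h1
  have h3 : g' • s = 0 := by
    by_contra hne
    obtain ⟨y, hy, hy1, hy2⟩ := exists_isWeakAssPoint_of_ne_zero hF hU _ hne
    apply hy2
    apply h y hy1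
    rw [stalkLin_germ, Scheme.Modules.Hom.app_smul, h2, map_zero, map_zero]
  have hgu : IsUnit (X.presheaf.germ U x hx g) := (X.mem_basicOpen g x hx).mp hg
  have hgu' : IsUnit (X.presheaf.germ U x hx g') := (X.mem_basicOpen g' x hx).mp hg'
  have h4 : X.presheaf.germ U x hx g' • X.presheaf.germ U x hx g • m = 0 := by
    rw [← hs, ← germ_smul', h3, map_zero]
  rw [← smul_zero (X.presheaf.germ U x hx g')] at h4
  have h5 := hgu'.smul_left_cancel.mp h4
  rw [← smul_zero (X.presheaf.germ U x hx g)] at h5
  exact hgu.smul_left_cancel.mp h5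

/-- A map of quasi-coherent modules on a locally Noetherian scheme with coherent source is an isomorphism if at each
point it is an isomorphism on stalks or the source has depth at least two and the point is not associated to the target. -/
theorem isIso_of_depth [IsLocallyNoetherian X] (hF : Coh.IsCoh F) (hG : Coh.IsQCoh G)
    (h : ∀ x : X, Function.Bijective (stalkLin φ x) ∨
      ((2 : ℕ∞) ≤ LocCoh.depth (X.presheaf.stalk x) (F.presheaf.stalk x) ∧ ¬ Curv2.IsWeakAssPoint G x)) :
    IsIso φ := by
  have hnl : ∀ x : X, IsNoetherianRing (X.presheaf.stalk x) := fun x => inferInstance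
  have hfin : ∀ x : X, Module.Finite (X.presheaf.stalk x) (F.presheaf.stalk x) :=
    fun x => Groth.Agent.Divis.StalkMod.finite_stalk hF x
  have hmono : Mono φ := by
    refine mono_of_weakAss φ hF.1 hG fun x hx => ?_
    rcases h x with hb | ⟨hd, -⟩
    · exact hb.1
    · exfalso
      rw [isWeakAssPoint_iff] at hx
      obtain ⟨m, hm0, hm⟩ := hx
      have := hnl x
      have := hfin x
      obtain ⟨b, hb0, hb⟩ := exists_smul_killed m hm0 hm
      rcases exists_isWeaklyRegular_pair hd with hs | ⟨u, hu, v, hv, hreg⟩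
      · exact hm0 (Subsingleton.elim _ _)
      · rw [RingTheory.Sequence.isWeaklyRegular_cons_iff] at hreg
        apply hb0
        apply hreg.1
        simp only [smul_zero]
        exact hb u hu
  have hepi : Epi φ := by
    have hC : Coh.IsQCoh (cokernel φ) := Groth.Agent.PerfA.QCohSerre.isQCoh_cokernel φ hF.1 hG
    have hno : ∀ y : X, ¬ Curv2.IsWeakAssPoint (cokernel φ) y := by
      intro y hy
      rw [isWeakAssPoint_iff] at hy
      obtain ⟨c, hc0, hc⟩ := hy
      have := hnl y
      have := hfin y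
      obtain ⟨b, hb0, hb⟩ := exists_smul_killed c hc0 hc
      obtain ⟨g, hg⟩ := stalkLin_surjective (cokernel.π φ) y (b • c)
      have hex : Function.Exact (stalkLin φ y) (stalkLin (cokernel.π φ) y) :=
        stalkLin_exact (ShortComplex.mk φ (cokernel.π φ) (cokernel.condition φ))
          (ShortComplex.exact_cokernel φ) y
      have hgr : g ∉ Set.range (stalkLin φ y) := by
        intro hr
        rw [← hex g] at hr
        exact hb0 (hg ▸ hr)
      rcases h y with hbij | ⟨hd, hna⟩
      · exact hgr (hbij.2 g)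
      · apply hna
        rw [isWeakAssPoint_iff]
        obtain ⟨g', hg'0, hg'⟩ := exists_killed hd (stalkLin φ y) (stalkLin_injective φ y) g hgr
          (fun a ha => by rw [← hex (a • g), map_smul, hg, hb a ha])
        exact ⟨g', hg'0, fun a ha => ⟨1, by rw [pow_one]; exact hg' a ha⟩⟩
    refine Preadditive.epi_of_isZero_cokernel φ (Groth.Agent.Dcoh.StalkMod.isZero_of_subsingleton _ fun x => ?_)
    refine ⟨fun a b => ?_⟩
    have key : ∀ a : (cokernel φ).presheaf.stalk x, a = 0 := by
      intro a
      obtain ⟨U, hxU, s, rfl⟩ := TopCat.Presheaf.exists_germ_eq (cokernel φ).presheaf a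
      have := subsingleton_of_no_isWeakAssPoint hC hno U
      rw [Subsingleton.elim s 0, map_zero]
    rw [key a, key b]
  exact isIso_of_mono_of_epi φ

end Scheme

end K472.DepthIso
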