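import Groth.Agent.S0389
import Groth.Agent.Ega2.BasSec
import Groth.Agent.CohqB.FiniteType2
import Groth.Agent.Divis.StalkMod
import Groth.Prelude.Def_CohB1

/-!
# A quasi-coherent module of finite type on an integral scheme is free over a nonempty open
-/

set_option autoImplicit false
universe u
open CategoryTheory CategoryTheory.Limits AlgebraicGeometry TopologicalSpace TensorProduct
open Groth.Agent.Fdesc.QCohStalk Groth.Agent.Ega2.BasSec

namespace K472.GenFree

theorem exists_open_free {X : Scheme.{u}} [IsIntegral X] {F : X.Modules} (hF : Coh.IsQCoh F)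
    (hft : CohB1.IsFT F) : ∃ (U : X.Opens) (n : ℕ), genericPoint X ∈ U ∧
      Nonempty (F.restrict U.ι ≅ FlatMod.freeMod (↑U) n) := by
  obtain ⟨V, hV, hx⟩ := Groth.Agent.Divis.StalkMod.exists_affine (genericPoint X)
  have hne : Nonempty V := ⟨⟨_, hx⟩⟩
  have hfin : Module.Finite Γ(X, V) Γ(F, V) :=
    Groth.Agent.CohqB.FiniteType2.finite_sections_of_isFT F hft hV
  have hdom : IsDomain Γ(X, V) := inferInstance
  obtain ⟨f, hf0, hfree, -, -, -⟩ := Groth.Agent.S0389.result (R := Γ(X, V)) (S := Γ(X, V)) (M := Γ(F, V))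
  have hfin' : Module.Finite (Localization.Away f) (Localization.Away f ⊗[Γ(X, V)] Γ(F, V)) := inferInstance
  have hdl : IsDomain (Localization.Away f) :=
    IsLocalization.isDomain_localization (powers_le_nonZeroDivisors_of_noZeroDivisors hf0)
  obtain ⟨n, ⟨b⟩⟩ : ∃ n : ℕ, Nonempty (Module.Basis (Fin n) (Localization.Away f)
      (Localization.Away f ⊗[Γ(X, V)] Γ(F, V))) := ⟨_, ⟨Module.finBasis _ _⟩⟩
  let _ : Module Γ(X, V) Γ(F, X.basicOpen f) := resModule F (X.basicOpen_le f)
  let _ : Algebra Γ(X, V) Γ(X, X.basicOpen f) := resAlgebra f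
  have : IsLocalization.Away f Γ(X, X.basicOpen f) :=
    hV.isLocalization_of_eq_basicOpen f (homOfLE (X.basicOpen_le f)) rfl
  have : IsScalarTower Γ(X, V) Γ(X, X.basicOpen f) Γ(F, X.basicOpen f) :=
    IsScalarTower.of_algebraMap_smul (fun r m => rfl)
  have : IsLocalizedModule (.powers f) (resₗ F (X.basicOpen_le f)) :=
    isLocalizedModule_res F hV hF f
  have hloc : IsLocalizedModule (.powers f)
      (TensorProduct.mk Γ(X, V) (Localization.Away f) Γ(F, V) 1) := by
    infer_instance
  obtain ⟨b'⟩ := Groth.Agent.Ega2.SemilocalFree.nonempty_basis_of_isLocalizedModule (f := f)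
    (TensorProduct.mk Γ(X, V) (Localization.Away f) Γ(F, V) 1) (B' := Γ(X, X.basicOpen f))
    (resₗ F (X.basicOpen_le f)) b
  refine ⟨X.basicOpen f, n, ?_, ?_⟩
  · change genericPoint X ∈ (X.basicOpen f : Set X)
    rw [(genericPoint_spec X).mem_open_set_iff (X.basicOpen f).isOpen, Set.univ_inter]
    by_contra hne
    rw [Set.not_nonempty_iff_eq_empty] at hne
    apply hf0
    rw [← basicOpen_eq_bot_iff]
    ext1
    exact hne
  · rw [nonempty_restrict_iso_freeMod_iff]
    exact ⟨b', isBas_of_bijective hF (hV.basicOpen f) ((comb_bijective_iff _).mpr ⟨b', rfl⟩)⟩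

end K472.GenFree
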