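import Groth.Prelude.Def_Fitting
import Groth.Agent.S2422
import Mathlib.RingTheory.Norm.Transitivity
import Mathlib.FieldTheory.Minpoly.IsIntegrallyClosed

/-!
# The norm of a finite surjective morphism to a normal scheme
-/

set_option autoImplicit false
universe u

open CategoryTheory CategoryTheory.Limits AlgebraicGeometry TopologicalSpace

namespace K472.NormalNorm

section Alg

open Polynomial

theorem norm_eq_coeff {K L : Type*} [Field K] [Field L] [Algebra K L] [FiniteDimensional K L] (x : L) :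
    Algebra.norm K x = ((-1) ^ (minpoly K x).natDegree * (minpoly K x).coeff 0) ^
      Module.finrank (IntermediateField.adjoin K {x}) L := by
  have hx : IsIntegral K x := Algebra.IsIntegral.isIntegral x
  rw [Algebra.norm_eq_norm_adjoin]
  congr 1
  have := Algebra.PowerBasis.norm_gen_eq_coeff_zero_minpoly (IntermediateField.adjoin.powerBasis hx)
  rw [IntermediateField.adjoin.powerBasis_gen, IntermediateField.minpoly_gen] at this
  rw [this, IntermediateField.adjoin.powerBasis_dim]

theorem exists_norm {A B K L : Type*} [CommRing A] [IsDomain A] [IsIntegrallyClosed A] [CommRing B] [IsDomain B]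
    [Algebra A B] [Field K] [Field L] [Algebra A K] [IsFractionRing A K] [Algebra B L] [Algebra K L] [Algebra A L]
    [IsScalarTower A B L] [IsScalarTower A K L] [FiniteDimensional K L]
    (hBL : Function.Injective (algebraMap B L)) (s : B) (hs : IsIntegral A s) :
    ∃ t : A, algebraMap A K t = Algebra.norm K (algebraMap B L s) ∧ ∃ c : B, algebraMap A B t = s * c := by
  have hsL : IsIntegral A (algebraMap B L s) := hs.map (IsScalarTower.toAlgHom A B L)
  have h1 : minpoly K (algebraMap B L s) = (minpoly A (algebraMap B L s)).map (algebraMap A K) :=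
    minpoly.isIntegrallyClosed_eq_field_fractions K L hsL
  have h2 : aeval s (minpoly A (algebraMap B L s)) = 0 := by
    apply hBL
    rw [map_zero, ← aeval_algebraMap_apply, minpoly.aeval]
  set q := minpoly A (algebraMap B L s) with hq
  have h3 : algebraMap A B (q.coeff 0) = s * - aeval s q.divX := by
    have h4 := congrArg (aeval s) (Polynomial.divX_mul_X_add q)
    rw [h2, map_add, map_mul, aeval_X, aeval_C] at h4
    linear_combination h4
  have hr : 0 < Module.finrank (IntermediateField.adjoin K {algebraMap B L s}) L := Module.finrank_pos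
  obtain ⟨r, hr⟩ := Nat.exists_eq_succ_of_ne_zero hr.ne'
  refine ⟨((-1) ^ q.natDegree * q.coeff 0) ^ (r + 1), ?_, ?_⟩
  · rw [norm_eq_coeff, hr, h1, coeff_map, (minpoly.monic hsL).natDegree_map]
    simp [hq]
  · refine ⟨(-1) ^ q.natDegree * (- aeval s q.divX) * algebraMap A B (((-1) ^ q.natDegree * q.coeff 0) ^ r), ?_⟩
    rw [pow_succ', map_mul, map_mul, h3]
    simp only [map_pow, map_neg, map_one, map_mul]
    ring

end Alg

section Scheme

variable {X Y : Scheme.{u}} (π : X ⟶ Y)

theorem map_genericPoint [Surjective π] [IrreducibleSpace X] [IrreducibleSpace Y] :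
    π (genericPoint X) = genericPoint Y := by
  apply ((genericPoint_spec Y).eq _).symm
  have h := (genericPoint_spec X).image π.continuous
  rwa [Set.image_univ, π.surjective.range_eq, closure_univ] at h

theorem mem_of_nonempty {U : Y.Opens} [IrreducibleSpace Y] (y : Y) (hy : y ∈ U) : genericPoint Y ∈ U :=
  ((genericPoint_spec Y).mem_open_set_iff U.isOpen).mpr ⟨y, trivial, hy⟩

theorem mem_pre [Surjective π] [IrreducibleSpace X] [IrreducibleSpace Y] {U : Y.Opens} (hU : genericPoint Y ∈ U) :
    genericPoint X ∈ π ⁻¹ᵁ U := by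
  change π (genericPoint X) ∈ U
  rwa [map_genericPoint]

variable [Surjective π] [IsIntegral X] [IsIntegral Y]

/-- the map on function fields -/
noncomputable def fieldMap : Y.functionField ⟶ X.functionField :=
  Y.presheaf.stalkSpecializes (by rw [map_genericPoint π] : π (genericPoint X) ⤳ genericPoint Y) ≫
    π.stalkMap (genericPoint X)

theorem germ_fieldMap (U : Y.Opens) (hU : genericPoint Y ∈ U) (g : Γ(Y, U)) :
    fieldMap π (Y.presheaf.germ U (genericPoint Y) hU g) =
      X.presheaf.germ (π ⁻¹ᵁ U) (genericPoint X) (mem_pre π hU) (π.app U g) := by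
  have h1 : Y.presheaf.germ U (genericPoint Y) hU ≫ fieldMap π = π.app U ≫
      X.presheaf.germ (π ⁻¹ᵁ U) (genericPoint X) (mem_pre π hU) := by
    rw [fieldMap, TopCat.Presheaf.germ_stalkSpecializes_assoc]
    exact Scheme.Hom.germ_stalkMap π U (genericPoint X) (mem_pre π hU)
  exact congrArg (fun k => k.hom g) h1

/-- the function field extension -/
@[reducible] noncomputable def fieldAlg : Algebra Y.functionField X.functionField := (fieldMap π).hom.toAlgebra

/-- `t` is the norm of `s`. -/
def IsN {U : Y.Opens} (s : Γ(X, π ⁻¹ᵁ U)) (t : Γ(Y, U)) : Prop :=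
  letI := fieldAlg π
  ∀ hU : genericPoint Y ∈ U, Y.presheaf.germ U (genericPoint Y) hU t =
    Algebra.norm Y.functionField (X.presheaf.germ (π ⁻¹ᵁ U) (genericPoint X) (mem_pre π hU) s)

theorem IsN.unique {U : Y.Opens} {s : Γ(X, π ⁻¹ᵁ U)} {t t' : Γ(Y, U)} (h : IsN π s t) (h' : IsN π s t') :
    t = t' := by
  by_cases hU : genericPoint Y ∈ U
  · exact germ_injective_of_isIntegral Y _ hU ((h hU).trans (h' hU).symm)
  · have : U = ⊥ := by
      rw [eq_bot_iff]
      intro y hy
      exact (hU (mem_of_nonempty y hy)).elim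
    subst this
    exact Subsingleton.elim _ _

theorem IsN.res {U V : Y.Opens} (i : V ⟶ U) {s : Γ(X, π ⁻¹ᵁ U)} {t : Γ(Y, U)} (h : IsN π s t) :
    IsN π (X.presheaf.map ((Opens.map π.base).map i).op s) (Y.presheaf.map i.op t) := by
  intro hV
  have h1 : Y.presheaf.germ V (genericPoint Y) hV (Y.presheaf.map i.op t) =
      Y.presheaf.germ U (genericPoint Y) (i.le hV) t := TopCat.Presheaf.germ_res_apply _ _ _ _ _
  have h2 : X.presheaf.germ (π ⁻¹ᵁ V) (genericPoint X) (mem_pre π hV)
      (X.presheaf.map ((Opens.map π.base).map i).op s) =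
      X.presheaf.germ (π ⁻¹ᵁ U) (genericPoint X) (mem_pre π (i.le hV)) s :=
    TopCat.Presheaf.germ_res_apply _ _ _ _ _
  rw [h1, h2]
  exact h (i.le hV)

theorem isN_affine [IsFinite π] (hY : Pi1.IsNormalScheme Y) {V : Y.Opens} (hV : IsAffineOpen V)
    (hη : genericPoint Y ∈ V) :
    letI := fieldAlg π
    Module.Finite Y.functionField X.functionField ∧ ∀ s : Γ(X, π ⁻¹ᵁ V), ∃ t : Γ(Y, V), IsN π s t ∧
      ∃ c : Γ(X, π ⁻¹ᵁ V), π.app V t = s * c := by
  let := fieldAlg π
  have hVn : Nonempty V := ⟨⟨_, hη⟩⟩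
  have hWn : Nonempty (π ⁻¹ᵁ V) := ⟨⟨_, mem_pre π hη⟩⟩
  have hW : IsAffineOpen (π ⁻¹ᵁ V) := hV.preimage π
  let _ : Algebra Γ(Y, V) Γ(X, π ⁻¹ᵁ V) := (π.app V).hom.toAlgebra
  let _ : Algebra Γ(Y, V) X.functionField :=
    ((algebraMap Γ(X, π ⁻¹ᵁ V) X.functionField).comp (algebraMap Γ(Y, V) Γ(X, π ⁻¹ᵁ V))).toAlgebra
  have : IsScalarTower Γ(Y, V) Γ(X, π ⁻¹ᵁ V) X.functionField := .of_algebraMap_eq' rfl
  have : IsScalarTower Γ(Y, V) Y.functionField X.functionField :=
    .of_algebraMap_eq fun g => (germ_fieldMap π V hη g).symm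
  have : IsFractionRing Γ(Y, V) Y.functionField := functionField_isFractionRing_of_isAffineOpen Y V hV
  have : IsFractionRing Γ(X, π ⁻¹ᵁ V) X.functionField := functionField_isFractionRing_of_isAffineOpen X _ hW
  have : IsIntegrallyClosed Γ(Y, V) := Groth.Agent.S2422.isIntegrallyClosed_of_isNormal hY V hV
  have hfin : Module.Finite Γ(Y, V) Γ(X, π ⁻¹ᵁ V) := IsFinite.finite_app π V hV
  have hinj : Function.Injective (algebraMap Γ(Y, V) Γ(X, π ⁻¹ᵁ V)) := by
    intro a b hab
    have h1 : algebraMap Y.functionField X.functionField (algebraMap Γ(Y, V) Y.functionField a) =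
        algebraMap Y.functionField X.functionField (algebraMap Γ(Y, V) Y.functionField b) := by
      rw [← IsScalarTower.algebraMap_apply, ← IsScalarTower.algebraMap_apply,
        IsScalarTower.algebraMap_apply Γ(Y, V) Γ(X, π ⁻¹ᵁ V), hab,
        ← IsScalarTower.algebraMap_apply]
    exact IsFractionRing.injective Γ(Y, V) Y.functionField ((algebraMap _ _).injective h1)
  have : FaithfulSMul Γ(Y, V) Γ(X, π ⁻¹ᵁ V) := (faithfulSMul_iff_algebraMap_injective _ _).mpr hinj
  have : Algebra.IsAlgebraic Γ(Y, V) Γ(X, π ⁻¹ᵁ V) := inferInstance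
  have hfd : Module.Finite Y.functionField X.functionField :=
    .of_isLocalization Γ(Y, V) Γ(X, π ⁻¹ᵁ V) (nonZeroDivisors Γ(Y, V))
  refine ⟨hfd, fun s => ?_⟩
  obtain ⟨t, h1, c, hc⟩ := exists_norm (A := Γ(Y, V)) (B := Γ(X, π ⁻¹ᵁ V)) (K := Y.functionField)
    (L := X.functionField) (IsFractionRing.injective _ _) s (Algebra.IsIntegral.isIntegral s)
  exact ⟨t, fun _ => h1, c, hc⟩

omit [IsIntegral Y] in
theorem exists_affine (y : Y) (U : Y.Opens) (hy : y ∈ U) : ∃ V : Y.Opens, IsAffineOpen V ∧ V ≤ U ∧ y ∈ V := by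
  obtain ⟨V, hV, hyV, hVU⟩ := exists_isAffineOpen_mem_and_subset (x := y) (U := U) hy
  exact ⟨V, hV, hVU, hyV⟩

theorem exists_isN [IsFinite π] (hY : Pi1.IsNormalScheme Y) {U : Y.Opens} (s : Γ(X, π ⁻¹ᵁ U)) :
    ∃ t : Γ(Y, U), IsN π s t := by
  let := fieldAlg π
  choose V hV hVU hyV using fun y : U => exists_affine y.1 U y.2
  have h1 : ∀ y : U, ∃ t : Γ(Y, V y), IsN π (X.presheaf.map ((Opens.map π.base).map (homOfLE (hVU y))).op s) t :=
    fun y => by
      obtain ⟨t, ht, -⟩ := (isN_affine π hY (hV y) (mem_of_nonempty y.1 (hyV y))).2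
        (X.presheaf.map ((Opens.map π.base).map (homOfLE (hVU y))).op s)
      exact ⟨t, ht⟩
  choose t ht using h1
  obtain ⟨t', ht', -⟩ := TopCat.Sheaf.existsUnique_gluing' Y.sheaf V U (fun y => homOfLE (hVU y))
    (fun y hy => Opens.mem_iSup.mpr ⟨⟨y, hy⟩, hyV ⟨y, hy⟩⟩) t (fun y z => by
      have h2 := (ht y).res π (Opens.infLELeft (V y) (V z))
      have h3 := (ht z).res π (Opens.infLERight (V y) (V z))
      have h4 : X.presheaf.map ((Opens.map π.base).map (Opens.infLELeft (V y) (V z))).op
          (X.presheaf.map ((Opens.map π.base).map (homOfLE (hVU y))).op s) =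
          X.presheaf.map ((Opens.map π.base).map (Opens.infLERight (V y) (V z))).op
          (X.presheaf.map ((Opens.map π.base).map (homOfLE (hVU z))).op s) := by
        rw [← ConcreteCategory.comp_apply, ← ConcreteCategory.comp_apply, ← Functor.map_comp, ← Functor.map_comp]
        rfl
      rw [h4] at h2
      exact h2.unique π h3)
  refine ⟨t', fun hU => ?_⟩
  have h5 := ht ⟨_, hU⟩ (hyV ⟨_, hU⟩)
  have h6 : Y.presheaf.map (homOfLE (hVU ⟨_, hU⟩)).op t' = t ⟨_, hU⟩ := ht' ⟨_, hU⟩
  rw [← h6] at h5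
  have h7 : Y.presheaf.germ (V ⟨_, hU⟩) (genericPoint Y) (hyV ⟨_, hU⟩)
      (Y.presheaf.map (homOfLE (hVU ⟨_, hU⟩)).op t') = Y.presheaf.germ U (genericPoint Y) hU t' :=
    TopCat.Presheaf.germ_res_apply _ _ _ _ _
  have h8 : X.presheaf.germ (π ⁻¹ᵁ V ⟨_, hU⟩) (genericPoint X) (mem_pre π (hyV ⟨_, hU⟩))
      (X.presheaf.map ((Opens.map π.base).map (homOfLE (hVU ⟨_, hU⟩))).op s) =
      X.presheaf.germ (π ⁻¹ᵁ U) (genericPoint X) (mem_pre π hU) s :=
    TopCat.Presheaf.germ_res_apply _ _ _ _ _
  rw [← h7, h5, h8]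

/-- the norm -/
noncomputable def norm [IsFinite π] (hY : Pi1.IsNormalScheme Y) (U : Y.Opens) : Γ(X, π ⁻¹ᵁ U) →* Γ(Y, U) where
  toFun s := (exists_isN π hY s).choose
  map_one' := by
    apply IsN.unique π (exists_isN π hY _).choose_spec
    intro hU
    rw [map_one, map_one, map_one]
  map_mul' s s' := by
    apply IsN.unique π (exists_isN π hY _).choose_spec
    intro hU
    rw [map_mul, map_mul, map_mul, (exists_isN π hY s).choose_spec hU, (exists_isN π hY s').choose_spec hU]

theorem isN_norm [IsFinite π] (hY : Pi1.IsNormalScheme Y) (U : Y.Opens) (s : Γ(X, π ⁻¹ᵁ U)) :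
    IsN π s (norm π hY U s) := (exists_isN π hY s).choose_spec

/-- The norm of a finite surjective morphism onto a normal scheme. -/
noncomputable def normOfDegree [IsFinite π] (hY : Pi1.IsNormalScheme Y) :
    letI := fieldAlg π
    Nrm.NormOfDegree π (Module.finrank Y.functionField X.functionField) := by
  letI := fieldAlg π
  exact {
    one_le := by
      obtain ⟨V, hV, -, hη⟩ := exists_affine (genericPoint Y) ⊤ trivial
      have := (isN_affine π hY hV hη).1
      exact Module.finrank_pos
    norm := norm π hY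
    norm_res := fun {U V} i s => ((isN_norm π hY U s).res π i).unique π (isN_norm π hY V _)
    norm_app := fun U g => by
      apply (isN_norm π hY U _).unique π
      intro hU
      rw [map_pow, ← germ_fieldMap π U hU]
      exact (Algebra.norm_algebraMap (S := X.functionField) _).symm
    norm_mem := fun U s x hx h => by
      obtain ⟨V, hV, hVU, hxV⟩ := exists_affine (π x) U hx
      let i : V ⟶ U := homOfLE hVU
      obtain ⟨t, ht, c, hc⟩ := (isN_affine π hY hV (mem_of_nonempty _ hxV)).2
        (X.presheaf.map ((Opens.map π.base).map i).op s)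
      have h1 : Y.presheaf.map i.op (norm π hY U s) = t := ((isN_norm π hY U s).res π i).unique π ht
      have h2 : Y.presheaf.germ U (π x) hx (norm π hY U s) = Y.presheaf.germ V (π x) hxV t := by
        rw [← h1]
        exact (TopCat.Presheaf.germ_res_apply _ _ _ _ _).symm
      have h3 : X.presheaf.germ (π ⁻¹ᵁ V) x hxV (X.presheaf.map ((Opens.map π.base).map i).op s) =
          X.presheaf.germ (π ⁻¹ᵁ U) x hx s := TopCat.Presheaf.germ_res_apply _ _ _ _ _
      change Y.presheaf.germ U (π x) hx (norm π hY U s) ∈ _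
      rw [h2]
      have h4 : π.stalkMap x (Y.presheaf.germ V (π x) hxV t) = X.presheaf.germ (π ⁻¹ᵁ V) x hxV (π.app V t) :=
        Scheme.Hom.germ_stalkMap_apply π V x hxV t
      rw [hc, map_mul, h3] at h4
      have h5 : π.stalkMap x (Y.presheaf.germ V (π x) hxV t) ∈
          IsLocalRing.maximalIdeal (X.presheaf.stalk x) := by
        rw [h4]
        exact Ideal.mul_mem_right _ _ h
      exact (map_mem_nonunits_iff (π.stalkMap x).hom _).mp h5 }

end Scheme

end K472.NormalNorm
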