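import Groth.Prelude.Def_Fitting
import Groth.Agent.S2264
import Mathlib.AlgebraicGeometry.Morphisms.ClosedImmersion
import Mathlib.Algebra.CharP.Lemmas

/-!
# The Frobenius norm for a nilpotent closed immersion in characteristic `p`
-/

set_option autoImplicit false
universe u

open CategoryTheory CategoryTheory.Limits AlgebraicGeometry TopologicalSpace

namespace K472.FrobNorm

theorem pow_eq_of_sub_pow {R : Type*} [CommRing R] {p : ℕ} (hp : p.Prime) (hR : (p : R) = 0) (e : ℕ) {a b : R}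
    (h : (a - b) ^ p ^ e = 0) : a ^ p ^ e = b ^ p ^ e := by
  obtain ⟨r, hr⟩ := (Commute.all (a - b) b).exists_add_pow_prime_pow_eq hp e
  rw [hR, zero_mul, zero_mul, zero_mul, add_zero, sub_add_cancel, h, zero_add] at hr
  exact hr

variable {Z X : Scheme.{u}} (ι : Z ⟶ X) (q : ℕ)

/-- the `q`-th power of a section depends only on its restriction along `ι` -/
def Good : Prop := ∀ (U : X.Opens) (a b : Γ(X, U)), ι.app U a = ι.app U b → a ^ q = b ^ q

theorem exists_affine (x : X) (U : X.Opens) (hx : x ∈ U) : ∃ V : X.Opens, IsAffineOpen V ∧ V ≤ U ∧ x ∈ V := by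
  obtain ⟨V, hV, hyV, hVU⟩ := exists_isAffineOpen_mem_and_subset (x := x) (U := U) hx
  exact ⟨V, hV, hVU, hyV⟩

theorem app_res {U V : X.Opens} (i : V ⟶ U) (a : Γ(X, U)) :
    ι.app V (X.presheaf.map i.op a) = Z.presheaf.map ((Opens.map ι.base).map i).op (ι.app U a) :=
  congrArg (fun k => k.hom a) (ι.naturality i.op)

theorem eq_of_affine {U : X.Opens} {a b : Γ(X, U)} (h : ∀ (V : X.Opens) (i : V ⟶ U), IsAffineOpen V →
    X.presheaf.map i.op a = X.presheaf.map i.op b) : a = b := by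
  choose V hV hVU hyV using fun y : U => exists_affine y.1 U y.2
  exact TopCat.Sheaf.eq_of_locally_eq' X.sheaf V U (fun y => homOfLE (hVU y))
    (fun y hy => Opens.mem_iSup.mpr ⟨⟨y, hy⟩, hyV ⟨y, hy⟩⟩) _ _ fun y => h _ _ (hV y)

variable {ι q}

theorem good_of_affine (h : ∀ (U : X.Opens), IsAffineOpen U → ∀ (a b : Γ(X, U)), ι.app U a = ι.app U b →
    a ^ q = b ^ q) : Good ι q := by
  intro U a b hab
  refine eq_of_affine fun V i hV => ?_
  rw [map_pow, map_pow]
  apply h V hV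
  rw [app_res, app_res, hab]

variable (ι q)

/-- `t` is the norm of `s`. -/
def IsN {U : X.Opens} (s : Γ(Z, ι ⁻¹ᵁ U)) (t : Γ(X, U)) : Prop :=
  ∀ (V : X.Opens) (i : V ⟶ U) (a : Γ(X, V)), ι.app V a = Z.presheaf.map ((Opens.map ι.base).map i).op s →
    X.presheaf.map i.op t = a ^ q

variable {ι q}

theorem IsN.res {U V : X.Opens} (i : V ⟶ U) {s : Γ(Z, ι ⁻¹ᵁ U)} {t : Γ(X, U)} (h : IsN ι q s t) :
    IsN ι q (Z.presheaf.map ((Opens.map ι.base).map i).op s) (X.presheaf.map i.op t) := by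
  intro W j a ha
  rw [← ConcreteCategory.comp_apply, ← Functor.map_comp] at ha ⊢
  exact h W (j ≫ i) a ha

theorem IsN.unique [IsClosedImmersion ι] {U : X.Opens} {s : Γ(Z, ι ⁻¹ᵁ U)} {t t' : Γ(X, U)} (h : IsN ι q s t)
    (h' : IsN ι q s t') : t = t' := by
  refine eq_of_affine fun V i hV => ?_
  obtain ⟨a, ha⟩ := ι.app_surjective V hV (Z.presheaf.map ((Opens.map ι.base).map i).op s)
  rw [h V i a ha, h' V i a ha]

theorem isN_app (hq : Good ι q) {U : X.Opens} (a : Γ(X, U)) : IsN ι q (ι.app U a) (a ^ q) := by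
  intro V i b hb
  rw [map_pow]
  apply hq
  rw [hb, app_res]

theorem exists_isN [IsClosedImmersion ι] (hq : Good ι q) {U : X.Opens} (s : Γ(Z, ι ⁻¹ᵁ U)) :
    ∃ t : Γ(X, U), IsN ι q s t := by
  choose V hV hVU hyV using fun y : U => exists_affine y.1 U y.2
  have h1 : ∀ y : U, ∃ t : Γ(X, V y),
      IsN ι q (Z.presheaf.map ((Opens.map ι.base).map (homOfLE (hVU y))).op s) t := fun y => by
    obtain ⟨a, ha⟩ := ι.app_surjective (V y) (hV y)
      (Z.presheaf.map ((Opens.map ι.base).map (homOfLE (hVU y))).op s)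
    exact ⟨a ^ q, ha ▸ isN_app hq a⟩
  choose t ht using h1
  obtain ⟨t', ht'⟩ : ∃ t' : Γ(X, U), ∀ y, X.presheaf.map (homOfLE (hVU y)).op t' = t y := by
   obtain ⟨t', ht', -⟩ := TopCat.Sheaf.existsUnique_gluing' X.sheaf V U (fun y => homOfLE (hVU y))
    (fun y hy => Opens.mem_iSup.mpr ⟨⟨y, hy⟩, hyV ⟨y, hy⟩⟩) t (fun y z => by
      have h2 := (ht y).res (Opens.infLELeft (V y) (V z))
      have h3 := (ht z).res (Opens.infLERight (V y) (V z))
      have h4 : Z.presheaf.map ((Opens.map ι.base).map (Opens.infLELeft (V y) (V z))).op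
          (Z.presheaf.map ((Opens.map ι.base).map (homOfLE (hVU y))).op s) =
          Z.presheaf.map ((Opens.map ι.base).map (Opens.infLERight (V y) (V z))).op
          (Z.presheaf.map ((Opens.map ι.base).map (homOfLE (hVU z))).op s) := by
        rw [← ConcreteCategory.comp_apply, ← ConcreteCategory.comp_apply, ← Functor.map_comp, ← Functor.map_comp]
        rfl
      rw [h4] at h2
      exact h2.unique h3)
   exact ⟨t', ht'⟩
  refine ⟨t', fun W i a ha => ?_⟩
  -- check on the cover `V y ⊓ W`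
  refine TopCat.Sheaf.eq_of_locally_eq' X.sheaf (fun y : W => W ⊓ V ⟨y, i.le y.2⟩) W
    (fun y => homOfLE inf_le_left)
    (fun y hy => Opens.mem_iSup.mpr ⟨⟨y, hy⟩, hy, hyV ⟨y, i.le hy⟩⟩) _ _ fun y => ?_
  have h5 : X.presheaf.map (homOfLE (hVU ⟨y, i.le y.2⟩)).op t' = t ⟨y, i.le y.2⟩ := ht' ⟨y, i.le y.2⟩
  have h6 := ht ⟨y, i.le y.2⟩ (W ⊓ V ⟨y, i.le y.2⟩) (homOfLE inf_le_right)
    (X.presheaf.map (homOfLE inf_le_left).op a) (by
      rw [app_res, ha]
      simp only [← ConcreteCategory.comp_apply, ← Functor.map_comp]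
      rfl)
  rw [← h5, ← ConcreteCategory.comp_apply, ← Functor.map_comp, ← map_pow] at h6
  have h7 : X.presheaf.map (homOfLE (inf_le_left : W ⊓ V ⟨y, i.le y.2⟩ ≤ W)).op (X.presheaf.map i.op t') =
      X.presheaf.map (homOfLE (inf_le_left : W ⊓ V ⟨y, i.le y.2⟩ ≤ W)).op (a ^ q) := by
    rw [← ConcreteCategory.comp_apply, ← Functor.map_comp]
    exact h6
  exact h7

/-- the norm -/
noncomputable def norm [IsClosedImmersion ι] (hq : Good ι q) (U : X.Opens) : Γ(Z, ι ⁻¹ᵁ U) →* Γ(X, U) where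
  toFun s := (exists_isN hq s).choose
  map_one' := by
    apply IsN.unique (exists_isN hq _).choose_spec
    have := isN_app hq (1 : Γ(X, U))
    rwa [map_one, one_pow] at this
  map_mul' s s' := by
    apply IsN.unique (exists_isN hq _).choose_spec
    intro V i a ha
    have h1 := (exists_isN hq s).choose_spec
    have h2 := (exists_isN hq s').choose_spec
    refine eq_of_affine fun W j hW => ?_
    obtain ⟨b, hb⟩ := ι.app_surjective W hW (Z.presheaf.map ((Opens.map ι.base).map (j ≫ i)).op s)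
    obtain ⟨c, hc⟩ := ι.app_surjective W hW (Z.presheaf.map ((Opens.map ι.base).map (j ≫ i)).op s')
    rw [← ConcreteCategory.comp_apply, ← Functor.map_comp, ← op_comp, map_mul, h1 W (j ≫ i) b hb,
      h2 W (j ≫ i) c hc, map_pow, ← mul_pow]
    apply hq
    rw [app_res, ha, map_mul, hb, hc, ← ConcreteCategory.comp_apply, ← Functor.map_comp, ← map_mul]
    rfl

theorem isN_norm [IsClosedImmersion ι] (hq : Good ι q) (U : X.Opens) (s : Γ(Z, ι ⁻¹ᵁ U)) :
    IsN ι q s (norm hq U s) := (exists_isN hq s).choose_spec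

/-- The `q`-power norm. -/
noncomputable def normOfDegree [IsClosedImmersion ι] (h1 : 1 ≤ q) (hq : Good ι q) : Nrm.NormOfDegree ι q where
  one_le := h1
  norm := norm hq
  norm_res {U V} i s := ((isN_norm hq U s).res i).unique (isN_norm hq V _)
  norm_app U g := (isN_norm hq U _).unique (isN_app hq g)
  norm_mem U s x hx h := by
    obtain ⟨V, hV, hVU, hxV⟩ := exists_affine (ι x) U hx
    let i : V ⟶ U := homOfLE hVU
    obtain ⟨a, ha⟩ := ι.app_surjective V hV (Z.presheaf.map ((Opens.map ι.base).map i).op s)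
    have h2 : X.presheaf.germ U (ι x) hx (norm hq U s) = X.presheaf.germ V (ι x) hxV a ^ q := by
      rw [← map_pow, ← isN_norm hq U s V i a ha]
      exact (TopCat.Presheaf.germ_res_apply _ _ _ _ _).symm
    change X.presheaf.germ U (ι x) hx (norm hq U s) ∈ _
    rw [h2]
    apply Ideal.pow_mem_of_mem _ _ _ h1
    have h3 : Z.presheaf.germ (ι ⁻¹ᵁ V) x hxV (Z.presheaf.map ((Opens.map ι.base).map i).op s) =
        Z.presheaf.germ (ι ⁻¹ᵁ U) x hx s := TopCat.Presheaf.germ_res_apply _ _ _ _ _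
    have h4 : ι.stalkMap x (X.presheaf.germ V (ι x) hxV a) = Z.presheaf.germ (ι ⁻¹ᵁ V) x hxV (ι.app V a) :=
      Scheme.Hom.germ_stalkMap_apply ι V x hxV a
    rw [ha, h3] at h4
    exact (map_mem_nonunits_iff (ι.stalkMap x).hom _).mp (h4 ▸ h : _ ∈ IsLocalRing.maximalIdeal _)

theorem hasNorm (X : Scheme.{u}) [IsNoetherian X] (p : ℕ) (hp : p.Prime)
    (hpX : (p : Γ(X, ⊤)) = 0) : ∃ e : ℕ, 0 < e ∧ Nrm.HasNorm X.nilradical.subschemeι (p ^ e) := by
  obtain ⟨n, hn⟩ := Groth.Agent.S2264.result X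
  have h1 : n ≤ p ^ (n + 1) := (Nat.lt_pow_self hp.one_lt).le.trans (Nat.pow_le_pow_right hp.pos (Nat.le_succ n))
  refine ⟨n + 1, n.succ_pos, ⟨normOfDegree (Nat.one_le_pow _ _ hp.pos) (good_of_affine fun U hU a b hab => ?_)⟩⟩
  have hpU : (p : Γ(X, U)) = 0 := by
    have := congrArg (X.presheaf.map (homOfLE (le_top : U ≤ ⊤)).op) hpX
    simpa using this
  apply pow_eq_of_sub_pow hp hpU
  have h2 : a - b ∈ X.nilradical.ideal ⟨U, hU⟩ := by
    rw [← Scheme.IdealSheafData.ker_subschemeι_app, RingHom.mem_ker, map_sub, sub_eq_zero]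
    exact hab
  have h3 : (a - b) ^ n ∈ X.nilradical.ideal ⟨U, hU⟩ ^ n := Ideal.pow_mem_pow h2 n
  have h4 : X.nilradical.ideal ⟨U, hU⟩ ^ n = ⊥ :=
    congrFun (congrArg Scheme.IdealSheafData.ideal hn) ⟨U, hU⟩
  rw [h4, Ideal.mem_bot] at h3
  rw [← Nat.sub_add_cancel h1, pow_add, h3, mul_zero]

end K472.FrobNorm
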