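import Groth.Agent.SDiv.K472.RelSeq
import Groth.Agent.SDiv.K473.RegImmCalc
import Groth.Agent.RegImm.K559.Basic
import Mathlib.AlgebraicGeometry.Morphisms.Flat

/-!
# Base change of relative quasi-regular and `H_1`-regular immersions
-/

set_option autoImplicit false
universe u

open CategoryTheory CategoryTheory.Limits AlgebraicGeometry TopologicalSpace TensorProduct

namespace K472.RelImm

open K473.RegImmCalc K473.SeqFlat K472.RelSeq

/-- Charts of a fibre product. -/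
theorem chart {X S T X' : Scheme.{u}} {f : X ⟶ S} {g : T ⟶ S} {p₁ : X' ⟶ X} {p₂ : X' ⟶ T}
    (hc : IsPullback p₁ p₂ f g) {W : S.Opens} {V : X.Opens} {W' : T.Opens} (hW : IsAffineOpen W)
    (hV : IsAffineOpen V) (hW' : IsAffineOpen W') (hVW : V ≤ f ⁻¹ᵁ W) (hW'W : W' ≤ g ⁻¹ᵁ W) :
    IsAffineOpen (p₁ ⁻¹ᵁ V ⊓ p₂ ⁻¹ᵁ W') ∧
      IsPushout (f.appLE W V hVW) (g.appLE W W' hW'W) (p₁.appLE V (p₁ ⁻¹ᵁ V ⊓ p₂ ⁻¹ᵁ W') inf_le_left)
        (p₂.appLE W' (p₁ ⁻¹ᵁ V ⊓ p₂ ⁻¹ᵁ W') inf_le_right) := by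
  constructor
  · have : IsAffine _ := hW
    have : IsAffine _ := hV
    have : IsAffine _ := hW'
    exact .of_isIso (Scheme.Hom.isPullback_resLE hc hW'W hVW rfl).isoPullback.hom
  · exact (isIso_pushoutSection_iff hc hW'W hVW rfl).mp
      (isIso_pushoutSection_of_isAffineOpen hc hW'W hVW rfl hW hW' hV)

theorem ofList_eq_span_range {B : Type*} [CommRing B] (rs : List B) :
    Ideal.ofList rs = Ideal.span (Set.range rs.get) := by
  rw [Ideal.ofList]
  congr 1
  ext x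
  simp [List.mem_iff_get]

theorem map_eq_ofFn {A B : Type*} (rs : List A) (φ : A → B) :
    rs.map φ = List.ofFn (fun j => φ (rs.get j)) := by
  apply List.ext_get <;> simp

/-- Base change of sequences along a pushout of rings. -/
theorem seq_of_isPushout {A B A' B' : CommRingCat.{u}} {φ : A ⟶ B} {ψ : A ⟶ A'} {φ' : B ⟶ B'} {ψ' : A' ⟶ B'}
    (h : IsPushout φ ψ φ' ψ') {rs : List B} {k : RegImm.Kind}
    (hk : k = RegImm.Kind.h1 ∨ k = RegImm.Kind.quasi) (hrs : k.Seq B rs)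
    (hfl : ((Ideal.Quotient.mk (Ideal.ofList rs)).comp φ.hom).Flat) : k.Seq B' (rs.map φ'.hom) := by
  algebraize [φ.hom, ψ.hom]
  have hpo := CommRingCat.isPushout_tensorProduct A A' B
  let e : CommRingCat.of (A' ⊗[A] B) ≅ B' := hpo.isoIsPushout _ _ h.flip
  have he : ∀ b : B, e.hom.hom ((1 : A') ⊗ₜ[A] b) = φ'.hom b := by
    intro b
    have := IsPushout.inr_isoIsPushout_hom _ _ hpo h.flip
    exact congr($(this).hom b)
  have hofL : rs.map φ'.hom = List.ofFn (fun j => e.hom.hom ((1 : A') ⊗ₜ[A] rs.get j)) := by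
    simp only [he]
    exact map_eq_ofFn _ _
  have hfl' : Module.Flat A (B ⧸ Ideal.span (Set.range rs.get)) := by
    rw [ofList_eq_span_range] at hfl
    exact hfl
  have hflat : e.hom.hom.Flat := RingHom.Flat.of_bijective (ConcreteCategory.bijective_of_isIso e.hom)
  rcases hk with rfl | rfl
  · rw [hofL, seq_h1_ofFn]
    exact isH1Regular_map_of_flat e.hom.hom hflat (isH1Regular_baseChange rs.get A' hfl' hrs)
  · rw [hofL, seq_quasi_ofFn]
    exact isQuasiRegular_map_of_flat e.hom.hom hflat (isQuasiRegular_baseChange rs.get A' hfl' hrs)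

theorem flat_quotient_of_surjective {A B C : Type*} [CommRing A] [CommRing B] [CommRing C] (φ : A →+* B)
    (π : B →+* C) (hπ : Function.Surjective π) (h : (π.comp φ).Flat) :
    ((Ideal.Quotient.mk (RingHom.ker π)).comp φ).Flat := by
  let e := RingHom.quotientKerEquivOfSurjective hπ
  have h1 : ((Ideal.Quotient.mk (RingHom.ker π)).comp φ) = (e.symm : C →+* _).comp (π.comp φ) := by
    ext x
    simp only [RingHom.comp_apply, RingHom.coe_coe]
    rw [RingEquiv.eq_symm_apply]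
    rfl
  rw [h1]
  exact RingHom.Flat.comp h (RingHom.Flat.of_bijective e.symm.bijective)

/-- the quotient by the ideal of the immersion is flat over the base -/
theorem flat_quotient {X Z S : Scheme.{u}} {f : X ⟶ S} {i : Z ⟶ X} [Flat (i ≫ f)] {V : S.Opens} (hV : IsAffineOpen V)
    {U : X.Opens} (hU : IsAffineOpen U) (e : U ≤ f ⁻¹ᵁ V) (hi : IsClosedImmersion (i ∣_ U)) :
    ((Ideal.Quotient.mk (RingHom.ker (i.app U).hom)).comp (f.appLE V U e).hom).Flat := by
  apply flat_quotient_of_surjective _ _ (K559.Basic.app_surjective hU hi)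
  have h1 := Scheme.Hom.flat_appLE (i ≫ f) hV (K559.Basic.isAffineOpen_preimage hU hi) (by
    rw [Scheme.Hom.comp_preimage]; exact i.preimage_mono e)
  rw [← Scheme.Hom.appLE_comp_appLE i f V U (i ⁻¹ᵁ U) e le_rfl, Scheme.Hom.appLE_eq_app] at h1
  exact h1

/-- Base change of a relative regular immersion, over a chart. -/
theorem isRelRegularImmersion_of_isPullback {Z X S S' X' Z' : Scheme.{u}} {f : X ⟶ S} {i : Z ⟶ X} {k : RegImm.Kind}
    (hk : k = RegImm.Kind.h1 ∨ k = RegImm.Kind.quasi) (hi : RegImm.IsRelRegularImmersion k f i)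
    {g : S' ⟶ S} {p : X' ⟶ X} {q : X' ⟶ S'} (h : IsPullback p q f g) {i' : Z' ⟶ X'} {p' : Z' ⟶ Z}
    (h' : IsPullback p' i' i p) : RegImm.IsRelRegularImmersion k q i' := by
  have hfl := hi.2
  refine ⟨⟨MorphismProperty.of_isPullback (P := @IsImmersion) h' hi.1.1, fun z' => ?_⟩,
    MorphismProperty.of_isPullback (P := @Flat) (h'.paste_vert h) hi.2⟩
  have hx : i (p' z') = p (i' z') := by
    rw [← Scheme.Hom.comp_apply, h'.w, Scheme.Hom.comp_apply]
  have hs : f (i (p' z')) = g (q (i' z')) := by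
    rw [hx, ← Scheme.Hom.comp_apply, h.w, Scheme.Hom.comp_apply]
  obtain ⟨V, hV, hsV, -⟩ := exists_isAffineOpen_mem_and_subset (U := ⊤) (x := f (i (p' z'))) trivial
  obtain ⟨U, hxU, hUV, hc, rs, hrs, hker⟩ := At.exists_le (hi.1.2 (p' z')) (f ⁻¹ᵁ V) hsV
  obtain ⟨W', hW', hsW', hW'V⟩ := exists_isAffineOpen_mem_and_subset (U := g ⁻¹ᵁ V) (x := q (i' z'))
    (by change g (q (i' z')) ∈ V; rw [← hs]; exact hsV)
  obtain ⟨hO, hpo⟩ := chart h hV U.2 hW' hUV hW'V
  have hmem : i' z' ∈ p ⁻¹ᵁ U.1 ⊓ q ⁻¹ᵁ W' := ⟨by change p (i' z') ∈ U.1; rw [← hx]; exact hxU, hsW'⟩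
  obtain ⟨hc', hk'⟩ := K473.RegImmCalc.ker_app_of_isPullback h' U.2 hO inf_le_left hc
  rw [hker, Ideal.map_ofList] at hk'
  refine ⟨⟨_, hO⟩, hmem, hc', _, seq_of_isPushout hpo hk hrs ?_, hk'⟩
  rw [← hker]
  exact flat_quotient hV U.2 hUV hc

end K472.RelImm
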