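import Groth.Agent.SDiv.K472.RelImm
import Groth.Agent.Flat2G.SliceSeq
import Mathlib.RingTheory.Filtration
import Mathlib.RingTheory.Flat.Tensor
import Mathlib.RingTheory.Flat.Localization

/-!
# Flatness along a relative quasi-regular immersion
-/

set_option autoImplicit false
universe u

open CategoryTheory CategoryTheory.Limits AlgebraicGeometry TopologicalSpace TensorProduct

namespace K472.RelFlat

open K473.RegImmCalc K473.SeqFlat K472.RelSeq K472.RelImm

/-- If all `B / J ^ n` are flat over `A`, `J` a proper ideal of the Noetherian local ring `B`, then `B` is flat. -/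
theorem flat_of_flat_quotient_pow {A B : Type u} [CommRing A] [CommRing B] [Algebra A B] [IsLocalRing B]
    [IsNoetherianRing B] (J : Ideal B) (hJ : J ≠ ⊤) (h : ∀ n : ℕ, Module.Flat A (B ⧸ J ^ n)) : Module.Flat A B := by
  rw [Module.Flat.iff_lTensor_injective]
  intro I hI
  rw [injective_iff_map_eq_zero]
  intro x hx
  have : Module.Finite A I := Module.Finite.iff_fg.mpr hI
  have : Module.Finite B (B ⊗[A] I) := inferInstance
  have hk := Ideal.iInf_pow_smul_eq_bot_of_isLocalRing (M := B ⊗[A] I) J hJ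
  have hxm : x ∈ (⨅ n : ℕ, J ^ n • (⊤ : Submodule B (B ⊗[A] I))) := by
    rw [Submodule.mem_iInf]
    intro n
    let π : B →ₗ[A] (B ⧸ J ^ n) := (Ideal.Quotient.mkₐ A (J ^ n)).toLinearMap
    have h1 : π.rTensor I x = 0 := by
      have := h n
      apply Module.Flat.lTensor_preserves_injective_linearMap (M := B ⧸ J ^ n) I.subtype
        (Submodule.injective_subtype I)
      rw [map_zero]
      change (I.subtype.lTensor (B ⧸ J ^ n) ∘ₗ π.rTensor I) x = 0
      rw [LinearMap.lTensor_comp_rTensor, ← LinearMap.rTensor_comp_lTensor, LinearMap.comp_apply, hx, map_zero]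
    have hex : Function.Exact ((J ^ n).restrictScalars A).subtype π := by
      intro y
      constructor
      · intro hy
        exact ⟨⟨y, Ideal.Quotient.eq_zero_iff_mem.mp hy⟩, rfl⟩
      · rintro ⟨y, rfl⟩
        exact Ideal.Quotient.eq_zero_iff_mem.mpr y.2
    obtain ⟨y, rfl⟩ := (rTensor_exact I hex Ideal.Quotient.mk_surjective x).mp h1
    clear hx h1
    induction y using TensorProduct.induction_on with
    | zero => rw [map_zero]; exact Submodule.zero_mem _
    | tmul b a =>
      rw [LinearMap.rTensor_tmul]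
      have : ((b : B) ⊗ₜ[A] a : B ⊗[A] I) = (b : B) • ((1 : B) ⊗ₜ[A] a) := by
        rw [TensorProduct.smul_tmul', smul_eq_mul, mul_one]
      change ((b : B) ⊗ₜ[A] a : B ⊗[A] I) ∈ _
      rw [this]
      exact Submodule.smul_mem_smul b.2 trivial
    | add y z hy hz => rw [map_add]; exact Submodule.add_mem _ hy hz
  rw [hk] at hxm
  exact hxm

theorem germ_mem_maximalIdeal {X Z : Scheme.{u}} (i : Z ⟶ X) {U : X.Opens} (z : Z) (hz : i z ∈ U) {a : Γ(X, U)}
    (ha : a ∈ RingHom.ker (i.app U).hom) :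
    X.presheaf.germ U (i z) hz a ∈ IsLocalRing.maximalIdeal (X.presheaf.stalk (i z)) := by
  rw [IsLocalRing.mem_maximalIdeal]
  intro hu
  have h1 := hu.map (i.stalkMap z).hom
  rw [Scheme.Hom.germ_stalkMap_apply] at h1
  have h2 : i.app U a = 0 := ha
  rw [h2, map_zero] at h1
  exact not_isUnit_zero h1

/-- a relative quasi-regular immersion over Noetherian local rings -/
theorem flat_stalkMap {Z X S : Scheme.{u}} (f : X ⟶ S) (i : Z ⟶ X)
    (hi : RegImm.IsRelRegularImmersion RegImm.Kind.quasi f i) (z : Z) [IsNoetherianRing (X.presheaf.stalk (i z))] :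
    (f.stalkMap (i z)).hom.Flat := by
  have hfl := hi.2
  obtain ⟨V, hV, hsV, -⟩ := exists_isAffineOpen_mem_and_subset (U := ⊤) (x := f (i z)) trivial
  obtain ⟨⟨U, hU⟩, hxU, hUV, hc, rs, hrs, hker⟩ := At.exists_le (hi.1.2 z) (f ⁻¹ᵁ V) hsV
  have hq := flat_quotient (f := f) hV hU hUV hc
  set x := i z with hxdef
  let algRA : Algebra Γ(S, V) Γ(X, U) := (f.appLE V U hUV).hom.toAlgebra
  let algRRp : Algebra Γ(S, V) (S.presheaf.stalk (f x)) := S.presheaf.algebra_section_stalk ⟨f x, hsV⟩
  let algAAq : Algebra Γ(X, U) (X.presheaf.stalk x) := X.presheaf.algebra_section_stalk ⟨x, hxU⟩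
  let algRpAq : Algebra (S.presheaf.stalk (f x)) (X.presheaf.stalk x) := (f.stalkMap x).hom.toAlgebra
  let algRAq : Algebra Γ(S, V) (X.presheaf.stalk x) :=
    ((algebraMap Γ(X, U) (X.presheaf.stalk x)).comp (algebraMap Γ(S, V) Γ(X, U))).toAlgebra
  have : IsScalarTower Γ(S, V) Γ(X, U) (X.presheaf.stalk x) := IsScalarTower.of_algebraMap_eq' rfl
  have : IsScalarTower Γ(S, V) (S.presheaf.stalk (f x)) (X.presheaf.stalk x) :=
    IsScalarTower.of_algebraMap_eq fun r => by
      change X.presheaf.germ U x hxU (f.appLE V U hUV r) = f.stalkMap x (S.presheaf.germ V (f x) hsV r)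
      rw [Scheme.Hom.germ_stalkMap_apply, Scheme.Hom.appLE, CommRingCat.comp_apply,
        X.presheaf.germ_res_apply]
  have : IsLocalization.AtPrime (S.presheaf.stalk (f x)) (hV.primeIdealOf ⟨f x, hsV⟩).asIdeal :=
    hV.isLocalization_stalk ⟨f x, hsV⟩
  have : IsLocalization.AtPrime (X.presheaf.stalk x) (hU.primeIdealOf ⟨x, hxU⟩).asIdeal :=
    hU.isLocalization_stalk ⟨x, hxU⟩
  have : Module.Flat Γ(X, U) (X.presheaf.stalk x) :=
    IsLocalization.flat _ (hU.primeIdealOf ⟨x, hxU⟩).asIdeal.primeCompl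
  have hflq : Module.Flat Γ(S, V) (Γ(X, U) ⧸ Ideal.span (Set.range rs.get)) := by
    rw [hker, ofList_eq_span_range] at hq
    exact hq
  have hpow := flat_quotient_pow (R := Γ(S, V)) rs.get hflq hrs
  have hle : (Ideal.span (Set.range rs.get)).map (algebraMap Γ(X, U) (X.presheaf.stalk x)) ≤
      IsLocalRing.maximalIdeal (X.presheaf.stalk x) := by
    rw [← ofList_eq_span_range, ← hker, Ideal.map_le_iff_le_comap]
    intro a ha
    exact germ_mem_maximalIdeal i z hxU ha
  have h1 : Module.Flat Γ(S, V) (X.presheaf.stalk x) := by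
    apply flat_of_flat_quotient_pow
      ((Ideal.span (Set.range rs.get)).map (algebraMap Γ(X, U) (X.presheaf.stalk x)))
      (ne_top_of_le_ne_top (Ideal.IsPrime.ne_top inferInstance) hle)
    intro n
    rw [← Ideal.map_pow]
    have := hpow n
    exact Groth.Agent.Flat2G.SliceSeq.flat_map_of_flat _
  have h2 : Module.Flat (S.presheaf.stalk (f x)) (X.presheaf.stalk x) :=
    (Module.flat_iff_of_isLocalization (S.presheaf.stalk (f x))
      (hV.primeIdealOf ⟨f x, hsV⟩).asIdeal.primeCompl _).mpr h1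
  exact h2

end K472.RelFlat
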