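import Groth.Agent.SDiv.K472.RelFlat
import Groth.Agent.Flat2G.SliceSch
import Groth.Agent.Flat2D.FiberStalk
import Groth.Agent.EGA41.K104.QuasiReg
import Mathlib.RingTheory.TensorProduct.Quotient
import Mathlib.AlgebraicGeometry.Morphisms.FiniteType
import Mathlib.AlgebraicGeometry.Fiber

/-!
# Relative quasi-regular immersions into flat locally finitely presented schemes

At a flat point of `f`, a relative quasi-regular immersion is given on a chart by a sequence which is
transversally regular relative to the base (`Sliced`), hence is a regular immersion after every base change.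
-/

set_option autoImplicit false
universe u

open CategoryTheory CategoryTheory.Limits AlgebraicGeometry TopologicalSpace TensorProduct

namespace K472.RelSliced

open K473.RegImmCalc K473.SeqFlat K472.RelSeq K472.RelImm K472.RelFlat
open Groth.Agent.Flat2G.SliceSeq Groth.Agent.Flat2G.SliceSch

/-- quasi-regularity on the fibre -/
theorem isQuasiRegular_quotient {A B : Type u} [CommRing A] [CommRing B] [Algebra A B] (m : Ideal A) {c : ℕ}
    (f : Fin c → B) (hf : CAlgX.IsQuasiRegular f) (hfl : Module.Flat A (B ⧸ Ideal.span (Set.range f))) :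
    CAlgX.IsQuasiRegular (fun j => Ideal.Quotient.mk (m.map (algebraMap A B)) (f j)) := by
  have h1 := isQuasiRegular_baseChange f (A ⧸ m) hfl hf
  let e : (A ⧸ m) ⊗[A] B ≃+* (B ⧸ m.map (algebraMap A B)) :=
    (Algebra.TensorProduct.quotIdealMapEquivQuotTensor B m).symm.toRingEquiv
  have h2 := isQuasiRegular_map_of_flat e.toRingHom (RingHom.Flat.of_bijective (f := e.toRingHom) e.bijective) h1
  have h3 : (fun i => e.toRingHom ((1 : A ⧸ m) ⊗ₜ[A] f i)) =
      fun j => Ideal.Quotient.mk (m.map (algebraMap A B)) (f j) := by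
    funext j
    change (Algebra.TensorProduct.quotIdealMapEquivQuotTensor B m).symm _ = _
    rw [AlgEquiv.symm_apply_eq, Algebra.TensorProduct.quotIdealMapEquivQuotTensor_mk]
  rw [h3] at h2
  exact h2

theorem isNoetherianRing_quotient {X S : Scheme.{u}} (f : X ⟶ S) [LocallyOfFiniteType f] (x : X) :
    IsNoetherianRing (X.presheaf.stalk x ⧸
      Ideal.map (f.stalkMap x).hom (IsLocalRing.maximalIdeal (S.presheaf.stalk (f x)))) := by
  obtain ⟨e⟩ := Groth.Agent.Flat2D.FiberStalk.nonempty_asFiber_stalkEquiv' f x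
  have : LocallyOfFiniteType (f.fiberToSpecResidueField (f x)) :=
    inferInstanceAs (LocallyOfFiniteType (pullback.snd f (S.fromSpecResidueField (f x))))
  have : IsLocallyNoetherian (f.fiber (f x)) :=
    LocallyOfFiniteType.isLocallyNoetherian (f.fiberToSpecResidueField (f x))
  exact isNoetherianRing_of_ringEquiv _ e.symm

theorem map_le_maximalIdeal {X S : Scheme.{u}} (f : X ⟶ S) (x : X) :
    Ideal.map (f.stalkMap x).hom (IsLocalRing.maximalIdeal (S.presheaf.stalk (f x))) ≤
      IsLocalRing.maximalIdeal (X.presheaf.stalk x) :=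
  ((IsLocalRing.local_hom_TFAE (f.stalkMap x).hom).out 0 2 rfl rfl).mp inferInstance

/-- two lists with the same germs agree near the point -/
theorem exists_res_eq {X : Scheme.{u}} (x : X) {U U' : X.Opens} (hx : x ∈ U) (hx' : x ∈ U') (l : List Γ(X, U))
    (l' : List Γ(X, U')) (h : l.map (X.presheaf.germ U x hx) = l'.map (X.presheaf.germ U' x hx')) :
    ∃ (W : X.Opens) (_ : x ∈ W) (_ : IsAffineOpen W) (e : W ≤ U) (e' : W ≤ U'),
      l.map (X.presheaf.map (homOfLE e).op).hom = l'.map (X.presheaf.map (homOfLE e').op).hom := by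
  induction l generalizing l' with
  | nil =>
    have h0 : l' = [] := by simpa using h.symm
    subst h0
    obtain ⟨W, hW, hxW, hWU⟩ := exists_isAffineOpen_mem_and_subset (U := U ⊓ U') (x := x) ⟨hx, hx'⟩
    exact ⟨W, hxW, hW, fun _ h => (hWU h).1, fun _ h => (hWU h).2, rfl⟩
  | cons a l ih =>
    cases l' with
    | nil => simp at h
    | cons a' l' =>
      simp only [List.map_cons, List.cons.injEq] at h
      obtain ⟨W, hxW, hW, e, e', hl⟩ := ih l' h.2
      have hg : X.presheaf.germ W x hxW (X.presheaf.map (homOfLE e).op a) =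
          X.presheaf.germ W x hxW (X.presheaf.map (homOfLE e').op a') := by
        rw [X.presheaf.germ_res_apply, X.presheaf.germ_res_apply]
        exact h.1
      obtain ⟨W', hxW', i1, i2, hW'⟩ := X.presheaf.germ_eq x hxW hxW _ _ hg
      obtain ⟨O, hO, hxO, hOW⟩ := exists_isAffineOpen_mem_and_subset (U := W') (x := x) hxW'
      have hOW' : O ≤ W := fun _ h => leOfHom i1 (hOW h)
      refine ⟨O, hxO, hO, hOW'.trans e, hOW'.trans e', ?_⟩
      rw [List.map_cons, List.map_cons]
      have e1 : ∀ b : Γ(X, U), (X.presheaf.map (homOfLE (hOW'.trans e)).op).hom b =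
          (X.presheaf.map (homOfLE hOW').op).hom ((X.presheaf.map (homOfLE e).op).hom b) := by
        intro b
        rw [← CommRingCat.comp_apply, ← X.presheaf.map_comp]
        rfl
      have e2 : ∀ b : Γ(X, U'), (X.presheaf.map (homOfLE (hOW'.trans e')).op).hom b =
          (X.presheaf.map (homOfLE hOW').op).hom ((X.presheaf.map (homOfLE e').op).hom b) := by
        intro b
        rw [← CommRingCat.comp_apply, ← X.presheaf.map_comp]
        rfl
      have e3 : ∀ b : Γ(X, W), (X.presheaf.map (homOfLE hOW').op).hom b =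
          (X.presheaf.map (homOfLE hOW : O ⟶ W').op).hom ((X.presheaf.map i1.op).hom b) := by
        intro b
        rw [← CommRingCat.comp_apply, ← X.presheaf.map_comp]
        rfl
      have e4 : ∀ b : Γ(X, W), (X.presheaf.map (homOfLE hOW').op).hom b =
          (X.presheaf.map (homOfLE hOW : O ⟶ W').op).hom ((X.presheaf.map i2.op).hom b) := by
        intro b
        rw [← CommRingCat.comp_apply, ← X.presheaf.map_comp]
        rfl
      congr 1
      · rw [e1, e2, e3, e4]
        exact congrArg _ hW'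
      · have := congrArg (List.map (X.presheaf.map (homOfLE hOW').op).hom) hl
        rw [List.map_map, List.map_map] at this
        convert this using 2
        · funext b; exact e1 b
        · funext b; exact e2 b

/-- A relative quasi-regular immersion at a flat point: charts with transversally regular sequences. -/
theorem exists_sliced_chart {Z X S : Scheme.{u}} (f : X ⟶ S) [LocallyOfFinitePresentation f] (i : Z ⟶ X)
    (hi : RegImm.IsRelRegularImmersion RegImm.Kind.quasi f i) (z : Z) (hflat : (f.stalkMap (i z)).hom.Flat) :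
    ∃ (V : S.Opens) (_ : IsAffineOpen V) (U : X.Opens) (_ : IsAffineOpen U) (_ : i z ∈ U) (e : U ≤ f ⁻¹ᵁ V)
      (_ : IsClosedImmersion (i ∣_ U)) (rs : List Γ(X, U)), RingHom.ker (i.app U).hom = Ideal.ofList rs ∧
      letI := (f.appLE V U e).hom.toAlgebra
      Sliced Γ(S, V) (⊥ : Ideal Γ(X, U)) rs := by
  have hfl := hi.2
  obtain ⟨V, hV, hsV, -⟩ := exists_isAffineOpen_mem_and_subset (U := ⊤) (x := f (i z)) trivial
  obtain ⟨⟨U, hU⟩, hxU, hUV, hc, rs, hrs, hker⟩ := At.exists_le (hi.1.2 z) (f ⁻¹ᵁ V) hsV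
  have hq := flat_quotient (f := f) hV hU hUV hc
  set x := i z with hxdef
  -- the ring-level data
  let algRA : Algebra Γ(S, V) Γ(X, U) := (f.appLE V U hUV).hom.toAlgebra
  let algRRp : Algebra Γ(S, V) (S.presheaf.stalk (f x)) := S.presheaf.algebra_section_stalk ⟨f x, hsV⟩
  let algAAq : Algebra Γ(X, U) (X.presheaf.stalk x) := X.presheaf.algebra_section_stalk ⟨x, hxU⟩
  let algRpAq : Algebra (S.presheaf.stalk (f x)) (X.presheaf.stalk x) := (f.stalkMap x).hom.toAlgebra
  let algRAq : Algebra Γ(S, V) (X.presheaf.stalk x) :=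
    ((algebraMap Γ(X, U) (X.presheaf.stalk x)).comp (algebraMap Γ(S, V) Γ(X, U))).toAlgebra
  have : IsScalarTower Γ(S, V) Γ(X, U) (X.presheaf.stalk x) := IsScalarTower.of_algebraMap_eq' rfl
  have : IsScalarTower Γ(S, V) (S.presheaf.stalk (f x)) (X.presheaf.stalk x) :=
    IsScalarTower.of_algebraMap_eq fun r => by
      change X.presheaf.germ U x hxU (f.appLE V U hUV r) = f.stalkMap x (S.presheaf.germ V (f x) hsV r)
      rw [Scheme.Hom.germ_stalkMap_apply, Scheme.Hom.appLE, CommRingCat.comp_apply,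
        X.presheaf.germ_res_apply]
  have : IsLocalization.AtPrime (S.presheaf.stalk (f x)) (hV.primeIdealOf ⟨f x, hsV⟩).asIdeal :=
    hV.isLocalization_stalk ⟨f x, hsV⟩
  have : IsLocalization.AtPrime (X.presheaf.stalk x) (hU.primeIdealOf ⟨x, hxU⟩).asIdeal :=
    hU.isLocalization_stalk ⟨x, hxU⟩
  have hflAAq : Module.Flat Γ(X, U) (X.presheaf.stalk x) :=
    IsLocalization.flat _ (hU.primeIdealOf ⟨x, hxU⟩).asIdeal.primeCompl
  have hflq : Module.Flat Γ(S, V) (Γ(X, U) ⧸ Ideal.span (Set.range rs.get)) := by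
    rw [hker, ofList_eq_span_range] at hq
    exact hq
  -- the germs
  let γ : Γ(X, U) →+* X.presheaf.stalk x := algebraMap Γ(X, U) (X.presheaf.stalk x)
  have hγ : CAlgX.IsQuasiRegular (fun j => γ (rs.get j)) :=
    isQuasiRegular_map_of_flat γ hflAAq hrs
  have hspan : Ideal.span (Set.range fun j => γ (rs.get j)) = (Ideal.span (Set.range rs.get)).map γ := by
    rw [Ideal.map_span, ← Set.range_comp]
    rfl
  have hflq' : Module.Flat (S.presheaf.stalk (f x))
      (X.presheaf.stalk x ⧸ Ideal.span (Set.range fun j => γ (rs.get j))) := by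
    rw [hspan]
    have h1 : Module.Flat Γ(S, V) (X.presheaf.stalk x ⧸ (Ideal.span (Set.range rs.get)).map γ) :=
      flat_map_of_flat _
    exact (Module.flat_iff_of_isLocalization (S.presheaf.stalk (f x))
      (hV.primeIdealOf ⟨f x, hsV⟩).asIdeal.primeCompl _).mpr h1
  have hmem : ∀ a ∈ rs, X.presheaf.germ U x hxU a ∈ IsLocalRing.maximalIdeal (X.presheaf.stalk x) := by
    intro a ha
    refine germ_mem_maximalIdeal i z hxU ?_
    rw [hker]
    exact Ideal.subset_span ha
  -- the fibre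
  have hquot := isQuasiRegular_quotient (IsLocalRing.maximalIdeal (S.presheaf.stalk (f x)))
    (fun j => γ (rs.get j)) hγ hflq'
  have := isNoetherianRing_quotient f x
  have hne : Ideal.map (f.stalkMap x).hom (IsLocalRing.maximalIdeal (S.presheaf.stalk (f x))) ≠ ⊤ :=
    ne_top_of_le_ne_top (Ideal.IsPrime.ne_top inferInstance) (map_le_maximalIdeal f x)
  have : Nontrivial (X.presheaf.stalk x ⧸
      Ideal.map (f.stalkMap x).hom (IsLocalRing.maximalIdeal (S.presheaf.stalk (f x)))) :=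
    Ideal.Quotient.nontrivial_iff.mpr hne
  have : IsLocalRing (X.presheaf.stalk x ⧸
      Ideal.map (f.stalkMap x).hom (IsLocalRing.maximalIdeal (S.presheaf.stalk (f x)))) :=
    .of_surjective' _ Ideal.Quotient.mk_surjective
  have hreg := K104.QuasiReg.isWeaklyRegular_of_isQuasiRegular _ _ (fun j => by
    rw [IsLocalRing.ringJacobson_eq_maximalIdeal]
    have h0 : IsLocalHom (Ideal.Quotient.mk
        (Ideal.map (f.stalkMap x).hom (IsLocalRing.maximalIdeal (S.presheaf.stalk (f x))))) :=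
      .of_surjective _ Ideal.Quotient.mk_surjective
    exact (map_mem_nonunits_iff (Ideal.Quotient.mk
        (Ideal.map (f.stalkMap x).hom (IsLocalRing.maximalIdeal (S.presheaf.stalk (f x))))) _).mpr
        (hmem _ (List.get_mem rs j))) hquot
  have hreg' : RegMod (Ideal.map (f.stalkMap x).hom (IsLocalRing.maximalIdeal (S.presheaf.stalk (f x))))
      (rs.map (X.presheaf.germ U x hxU)) := by
    rw [← isWeaklyRegular_map_mk_iff, List.map_map, map_eq_ofFn]
    exact hreg
  obtain ⟨V₁, hV₁, U₁, hU₁, hx₁, e₁, hs, hgerm, hsl⟩ := exists_sliced f x hflat _ (by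
    intro h hh
    obtain ⟨a, ha, rfl⟩ := List.mem_map.mp hh
    exact hmem a ha) hreg'
  obtain ⟨W, hxW, hW, e, e', heq⟩ := exists_res_eq x hxU hx₁ rs hs hgerm.symm
  obtain ⟨hcW, hkW⟩ := K473.RegImmCalc.ker_app_of_isPullback (g := 𝟙 X) (g' := 𝟙 Z) (i := i) (i' := i)
    (IsPullback.of_horiz_isIso ⟨by simp⟩) hU hW (by simpa using e) hc
  have hid : (Scheme.Hom.appLE (𝟙 X) U W (by simpa using e)).hom = (X.presheaf.map (homOfLE e).op).hom := by
    rw [Scheme.Hom.appLE, Scheme.Hom.id_app]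
    exact congrArg _ (Category.id_comp _)
  refine ⟨V₁, hV₁, W, hW, hxW, e'.trans e₁, hcW, hs.map (X.presheaf.map (homOfLE e').op).hom, ?_, ?_⟩
  · rw [hkW, hker, Ideal.map_ofList, hid, heq]
  · let a1 : Algebra Γ(S, V₁) Γ(X, U₁) := (f.appLE V₁ U₁ e₁).hom.toAlgebra
    let a2 : Algebra Γ(X, U₁) Γ(X, W) := (X.presheaf.map (homOfLE e').op).hom.toAlgebra
    let a3 : Algebra Γ(S, V₁) Γ(X, W) := (f.appLE V₁ W (e'.trans e₁)).hom.toAlgebra
    have : IsScalarTower Γ(S, V₁) Γ(X, U₁) Γ(X, W) := IsScalarTower.of_algebraMap_eq' (by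
      change (f.appLE V₁ W _).hom = (X.presheaf.map (homOfLE e').op).hom.comp (f.appLE V₁ U₁ e₁).hom
      rw [← CommRingCat.hom_comp, Scheme.Hom.appLE_map])
    have : Module.Flat Γ(X, U₁) Γ(X, W) := K559.Basic.flat_res hU₁ hW e'
    have H := Sliced.of_flat (B' := Γ(X, W)) hsl
    rw [Ideal.map_bot] at H
    exact H

/-- base change of a sliced chart gives a regular immersion -/
theorem isRegularImmersionAt_of_sliced {Z X S S' X' Z' : Scheme.{u}} {f : X ⟶ S} {i : Z ⟶ X}
    {g : S' ⟶ S} {p : X' ⟶ X} {q : X' ⟶ S'} (h : IsPullback p q f g) {i' : Z' ⟶ X'} {p' : Z' ⟶ Z}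
    (h' : IsPullback p' i' i p) {V : S.Opens} (hV : IsAffineOpen V) {U : X.Opens} (hU : IsAffineOpen U)
    (e : U ≤ f ⁻¹ᵁ V) (hc : IsClosedImmersion (i ∣_ U)) {rs : List Γ(X, U)}
    (hk : RingHom.ker (i.app U).hom = Ideal.ofList rs)
    (H : letI := (f.appLE V U e).hom.toAlgebra; Sliced Γ(S, V) (⊥ : Ideal Γ(X, U)) rs)
    (z' : Z') (hz : i (p' z') ∈ U) : RegImm.IsRegularImmersionAt RegImm.Kind.regular i' z' := by
  have hx : i (p' z') = p (i' z') := by
    rw [← Scheme.Hom.comp_apply, h'.w, Scheme.Hom.comp_apply]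
  have hs : f (i (p' z')) = g (q (i' z')) := by
    rw [hx, ← Scheme.Hom.comp_apply, h.w, Scheme.Hom.comp_apply]
  obtain ⟨W, hW, hsW, hWV⟩ := exists_isAffineOpen_mem_and_subset (U := g ⁻¹ᵁ V) (x := q (i' z'))
    (by change g (q (i' z')) ∈ V; rw [← hs]; exact e hz)
  have hWV' : W ≤ g ⁻¹ᵁ V := hWV
  obtain ⟨hO, hpo⟩ := chart h hV hU hW e hWV
  have hmem : i' z' ∈ p ⁻¹ᵁ U ⊓ q ⁻¹ᵁ W := ⟨by change p (i' z') ∈ U; rw [← hx]; exact hz, hsW⟩
  obtain ⟨hc', hk'⟩ := K473.RegImmCalc.ker_app_of_isPullback h' hU hO inf_le_left hc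
  rw [hk, Ideal.map_ofList] at hk'
  set O : X'.Opens := p ⁻¹ᵁ U ⊓ q ⁻¹ᵁ W with hOdef
  have hO1 : O ≤ p ⁻¹ᵁ U := inf_le_left
  have hO2 : O ≤ q ⁻¹ᵁ W := inf_le_right
  let a1 : Algebra Γ(S, V) Γ(X, U) := (f.appLE V U e).hom.toAlgebra
  let a2 : Algebra Γ(S, V) Γ(S', W) := (g.appLE V W hWV').hom.toAlgebra
  let a3 : Algebra Γ(X, U) Γ(X', O) := (p.appLE U O hO1).hom.toAlgebra
  let a4 : Algebra Γ(S', W) Γ(X', O) := (q.appLE W O hO2).hom.toAlgebra
  let a5 : Algebra Γ(S, V) Γ(X', O) := ((p.appLE U O hO1).hom.comp (f.appLE V U e).hom).toAlgebra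
  have : IsScalarTower Γ(S, V) Γ(X, U) Γ(X', O) := IsScalarTower.of_algebraMap_eq' rfl
  have : IsScalarTower Γ(S, V) Γ(S', W) Γ(X', O) := IsScalarTower.of_algebraMap_eq' (by
    change (p.appLE U O hO1).hom.comp (f.appLE V U e).hom =
      (q.appLE W O hO2).hom.comp (g.appLE V W hWV').hom
    rw [← CommRingCat.hom_comp, ← CommRingCat.hom_comp, hpo.w])
  have : Algebra.IsPushout Γ(S, V) Γ(X, U) Γ(S', W) Γ(X', O) :=
    CommRingCat.isPushout_iff_isPushout.mp hpo
  have H1 : Sliced Γ(S', W) ((⊥ : Ideal Γ(X, U)).map (algebraMap Γ(X, U) Γ(X', O)))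
      (rs.map (algebraMap Γ(X, U) Γ(X', O))) := Sliced.baseChange (R := Γ(S, V)) H
  rw [Ideal.map_bot] at H1
  refine ⟨⟨_, hO⟩, hmem, hc', rs.map (p.appLE U O hO1).hom, ?_, hk'⟩
  refine ⟨(isWeaklyRegular_iff_regMod_bot _).mpr H1.regMod, ?_⟩
  have hne := ker_app_ne_top (i := i') hmem
  rw [hk'] at hne
  rw [smul_eq_mul, Ideal.mul_top]
  exact hne.symm

/-- a relative quasi-regular immersion into `X` flat over the base along `Z` is universally regular -/
theorem isRegularImmersion_of_isPullback {Z X S S' X' Z' : Scheme.{u}} {f : X ⟶ S}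
    [LocallyOfFinitePresentation f] {i : Z ⟶ X}
    (hi : RegImm.IsRelRegularImmersion RegImm.Kind.quasi f i) (hflat : ∀ z : Z, (f.stalkMap (i z)).hom.Flat)
    {g : S' ⟶ S} {p : X' ⟶ X} {q : X' ⟶ S'} (h : IsPullback p q f g) {i' : Z' ⟶ X'} {p' : Z' ⟶ Z}
    (h' : IsPullback p' i' i p) : RegImm.IsRegularImmersion RegImm.Kind.regular i' := by
  refine ⟨MorphismProperty.of_isPullback (P := @IsImmersion) h' hi.1.1, fun z' => ?_⟩
  obtain ⟨V, hV, U, hU, hz, e, hc, rs, hk, H⟩ := exists_sliced_chart f i hi (p' z') (hflat _)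
  exact isRegularImmersionAt_of_sliced h h' hV hU e hc hk H z' hz

theorem isRegularImmersion {Z X S : Scheme.{u}} {f : X ⟶ S}
    [LocallyOfFinitePresentation f] {i : Z ⟶ X}
    (hi : RegImm.IsRelRegularImmersion RegImm.Kind.quasi f i) (hflat : ∀ z : Z, (f.stalkMap (i z)).hom.Flat) :
    RegImm.IsRegularImmersion RegImm.Kind.regular i :=
  isRegularImmersion_of_isPullback hi hflat (g := 𝟙 S) (p := 𝟙 X) (q := f) (IsPullback.of_horiz_isIso ⟨by simp⟩)
    (p' := 𝟙 Z) (IsPullback.of_horiz_isIso ⟨by simp⟩)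

end K472.RelSliced
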