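import Groth.Agent.SDiv.K472.H1Flat
import Groth.Agent.SDiv.K472.RelSliced
import Groth.Agent.S0386

/-!
# Relative `H_1`-regular immersions are immersions into the flat locus, and are universally regular
-/

set_option autoImplicit false
universe u

open CategoryTheory CategoryTheory.Limits AlgebraicGeometry TopologicalSpace TensorProduct

namespace K472.H1Scheme

open K473.RegImmCalc K473.SeqFlat K472.RelSeq K472.RelImm K472.RelFlat K472.RelSliced K472.H1Flat

/-- `f` is flat along a relative `H_1`-regular immersion -/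
theorem flat_stalkMap {Z X S : Scheme.{u}} (f : X ⟶ S) [LocallyOfFinitePresentation f] (i : Z ⟶ X)
    (hi : RegImm.IsRelRegularImmersion RegImm.Kind.h1 f i) (z : Z) : (f.stalkMap (i z)).hom.Flat := by
  have hfl := hi.2
  obtain ⟨V, hV, hsV, -⟩ := exists_isAffineOpen_mem_and_subset (U := ⊤) (x := f (i z)) trivial
  obtain ⟨⟨U, hU⟩, hxU, hUV, hc, rs, hrs, hker⟩ := At.exists_le (hi.1.2 z) (f ⁻¹ᵁ V) hsV
  have hq := flat_quotient (f := f) hV hU hUV hc
  set x := i z with hxdef
  let algRA : Algebra Γ(S, V) Γ(X, U) := (f.appLE V U hUV).hom.toAlgebra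
  let algRRp : Algebra Γ(S, V) (S.presheaf.stalk (f x)) := S.presheaf.algebra_section_stalk ⟨f x, hsV⟩
  let algAAq : Algebra Γ(X, U) (X.presheaf.stalk x) := X.presheaf.algebra_section_stalk ⟨x, hxU⟩
  let algRpAq : Algebra (S.presheaf.stalk (f x)) (X.presheaf.stalk x) := (f.stalkMap x).hom.toAlgebra
  let algRAq : Algebra Γ(S, V) (X.presheaf.stalk x) :=
    ((algebraMap Γ(X, U) (X.presheaf.stalk x)).comp (algebraMap Γ(S, V) Γ(X, U))).toAlgebra
  have : IsScalarTower Γ(S, V) Γ(X, U) (X.presheaf.stalk x) := IsScalarTower.of_algebraMap_eq' rfl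
  have : IsScalarTower Γ(S, V) (S.presheaf.stalk (f x)) (X.presheaf.stalk x) :=
    IsScalarTower.of_algebraMap_eq fun r => by
      change X.presheaf.germ U x hxU (f.appLE V U hUV r) = f.stalkMap x (S.presheaf.germ V (f x) hsV r)
      rw [Scheme.Hom.germ_stalkMap_apply, Scheme.Hom.appLE, CommRingCat.comp_apply,
        X.presheaf.germ_res_apply]
  have : Algebra.FinitePresentation Γ(S, V) Γ(X, U) := f.finitePresentation_appLE hV hU hUV
  have : IsLocalization.AtPrime (S.presheaf.stalk (f x)) (hV.primeIdealOf ⟨f x, hsV⟩).asIdeal :=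
    hV.isLocalization_stalk ⟨f x, hsV⟩
  let q : Ideal Γ(X, U) := (hU.primeIdealOf ⟨x, hxU⟩).asIdeal
  have : IsLocalization.AtPrime (X.presheaf.stalk x) q := hU.isLocalization_stalk ⟨x, hxU⟩
  have hflq : Module.Flat Γ(S, V) (Γ(X, U) ⧸ Ideal.span (Set.range rs.get)) := by
    rw [hker, ofList_eq_span_range] at hq
    exact hq
  have hmem : ∀ j, rs.get j ∈ q := by
    intro j
    rw [← IsLocalization.AtPrime.to_map_mem_maximal_iff (X.presheaf.stalk x) q]
    refine germ_mem_maximalIdeal i z hxU ?_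
    rw [hker]
    exact Ideal.subset_span (List.get_mem rs j)
  have h1 := flat_localization_of_isH1Regular (R := Γ(S, V)) rs.get hrs hflq q hmem
  let e : Localization.AtPrime q ≃ₐ[Γ(X, U)] X.presheaf.stalk x :=
    IsLocalization.algEquiv q.primeCompl _ _
  have h2 : Module.Flat Γ(S, V) (X.presheaf.stalk x) :=
    Module.Flat.of_linearEquiv (e.toLinearEquiv.restrictScalars Γ(S, V)).symm
  have h3 : Module.Flat (S.presheaf.stalk (f x)) (X.presheaf.stalk x) :=
    (Module.flat_iff_of_isLocalization (S.presheaf.stalk (f x))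
      (hV.primeIdealOf ⟨f x, hsV⟩).asIdeal.primeCompl _).mpr h2
  exact h3

theorem stalkMap_comp_iff {U X Y : Scheme.{u}} (i : U ⟶ X) (f : X ⟶ Y)
    [IsOpenImmersion i] (x : U) :
    ((i ≫ f).stalkMap x).hom.Flat ↔ (f.stalkMap (i x)).hom.Flat := by
  refine Iff.trans ?_
    (RingHom.Flat.respectsIso.cancel_right_isIso _ (i.stalkMap x))
  rw [← CommRingCat.hom_comp, ← Scheme.Hom.stalkMap_comp]
  rfl

/-- the flat open neighbourhood of the image -/
theorem exists_flat_nbhd {Z X S : Scheme.{u}} (f : X ⟶ S) [LocallyOfFinitePresentation f] (i : Z ⟶ X)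
    (hi : ∀ z : Z, (f.stalkMap (i z)).hom.Flat) :
    ∃ U : X.Opens, Set.range (fun z : ↥Z => i z) ⊆ (U : Set ↥X) ∧ Flat (U.ι ≫ f) := by
  refine ⟨⟨{x : X | (f.stalkMap x).hom.Flat}, Groth.Agent.S0386.result f⟩, ?_, ?_⟩
  · rintro _ ⟨z, rfl⟩
    exact hi z
  · refine Flat.of_stalkMap _ fun x => ?_
    rw [stalkMap_comp_iff]
    exact x.2

theorem isRelRegularImmersion_quasi {Z X S : Scheme.{u}} {f : X ⟶ S} {i : Z ⟶ X}
    (hi : RegImm.IsRelRegularImmersion RegImm.Kind.h1 f i) :
    RegImm.IsRelRegularImmersion RegImm.Kind.quasi f i :=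
  ⟨isRegularImmersion_mono_kind (fun _ h => quasi_of_h1 h) hi.1, hi.2⟩

end K472.H1Scheme
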