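import Groth.Agent.SDiv.K472.H1Level
import Groth.Agent.SDiv.K472.RelFlat
import Groth.Agent.FlatA.ModelFlat
import Groth.Agent.FlatA.FlatModel

/-!
# Flatness along an `H_1`-regular sequence with flat quotient

`flat_localization_of_isH1Regular`: `R → S` of finite presentation, `f` an `H_1`-regular sequence in `S` with
`S / (f)` flat over `R`: then `S` is flat over `R` at every prime containing `f`.
-/

set_option autoImplicit false
universe u

open TensorProduct

namespace K472.H1Flat

open K472.RelSeq K472.H1Level K472.RelFlat K473.SeqFlat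
open Groth.Agent.FlatA.FlatDescent Groth.Agent.FlatA.Model Groth.Agent.FlatA.ModelFlat
  Groth.Agent.FlatA.FlatModel Groth.Agent.Flat2G.SliceSeq

theorem span_map {A B : Type*} [CommRing A] [CommRing B] (φ : A →+* B) {c : ℕ} (f : Fin c → A) :
    (Ideal.span (Set.range f)).map φ = Ideal.span (Set.range fun i => φ (f i)) := by
  rw [Ideal.map_span, ← Set.range_comp]
  rfl

/-- the quotient of the localization -/
theorem flat_localization_quotient {A B : Type u} [CommRing A] [CommRing B] [Algebra A B] (I : Ideal B)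
    (q : Ideal B) [q.IsPrime] (h : Module.Flat A (LocalizedModule q.primeCompl (B ⧸ I))) :
    Module.Flat A (Localization.AtPrime q ⧸ I.map (algebraMap B (Localization.AtPrime q))) := by
  have h1 := isBaseChange_quotMap (B' := Localization.AtPrime q) I
  have h2 : IsLocalizedModule q.primeCompl (quotMap (B' := Localization.AtPrime q) I) :=
    (isLocalizedModule_iff_isBaseChange q.primeCompl (Localization.AtPrime q) _).mpr h1
  let e : LocalizedModule q.primeCompl (B ⧸ I) ≃ₗ[B]
      (Localization.AtPrime q ⧸ I.map (algebraMap B (Localization.AtPrime q))) :=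
    IsLocalizedModule.iso q.primeCompl (quotMap (B' := Localization.AtPrime q) I)
  exact Module.Flat.of_linearEquiv (e.restrictScalars A).symm

theorem flat_localizedModule_self {A B : Type u} [CommRing A] [CommRing B] [Algebra A B]
    (q : Ideal B) [q.IsPrime] :
    Module.Flat A (LocalizedModule q.primeCompl B) ↔ Module.Flat A (Localization.AtPrime q) := by
  let e : LocalizedModule q.primeCompl B ≃ₗ[B] Localization.AtPrime q :=
    IsLocalizedModule.iso q.primeCompl (Algebra.linearMap B (Localization.AtPrime q))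
  exact ⟨fun _ => Module.Flat.of_linearEquiv (e.restrictScalars A).symm,
    fun _ => Module.Flat.of_linearEquiv (e.restrictScalars A)⟩

/-- the local ring of `B₂ = A₂ ⊗ B` is flat over `A₂ ⊗ B_q₀` -/
theorem exists_flat_hom {A B A₂ B₂ : Type u} [CommRing A] [CommRing B] [Algebra A B] [CommRing A₂] [Algebra A A₂]
    [CommRing B₂] [Algebra A B₂] [Algebra A₂ B₂] [Algebra B B₂] [IsScalarTower A A₂ B₂] [IsScalarTower A B B₂]
    [Algebra.IsPushout A A₂ B B₂] (q₂ : Ideal B₂) [q₂.IsPrime] (q₀ : Ideal B) [q₀.IsPrime]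
    (hq : q₀ = q₂.comap (algebraMap B B₂)) :
    ∃ σ : A₂ ⊗[A] Localization.AtPrime q₀ →ₐ[A₂] Localization.AtPrime q₂, σ.toRingHom.Flat ∧
      ∀ x : B, σ (1 ⊗ₜ algebraMap B (Localization.AtPrime q₀) x) =
        algebraMap B₂ (Localization.AtPrime q₂) (algebraMap B B₂ x) := by
  let l₀ : Localization.AtPrime q₀ →+* Localization.AtPrime q₂ :=
    Localization.localRingHom q₀ q₂ (algebraMap B B₂) hq
  have hl₀ : ∀ x : B, l₀ (algebraMap B _ x) = algebraMap B₂ (Localization.AtPrime q₂) (algebraMap B B₂ x) :=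
    fun x => Localization.localRingHom_to_map q₀ q₂ (algebraMap B B₂) hq x
  let a1 : Algebra (Localization.AtPrime q₀) (Localization.AtPrime q₂) := l₀.toAlgebra
  have t1 : IsScalarTower B (Localization.AtPrime q₀) (Localization.AtPrime q₂) :=
    IsScalarTower.of_algebraMap_eq fun x => by
      rw [IsScalarTower.algebraMap_apply B B₂ (Localization.AtPrime q₂)]
      exact (hl₀ x).symm
  let δ : B₂ ⊗[B] Localization.AtPrime q₀ →ₐ[B₂] Localization.AtPrime q₂ :=
    Algebra.TensorProduct.lift (Algebra.ofId B₂ _) (IsScalarTower.toAlgHom B _ _) fun _ _ => Commute.all _ _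
  have hδ : δ.toRingHom.Flat := by
    let a2 : Algebra (B₂ ⊗[B] Localization.AtPrime q₀) (Localization.AtPrime q₂) := δ.toRingHom.toAlgebra
    have t2 : IsScalarTower B₂ (B₂ ⊗[B] Localization.AtPrime q₀) (Localization.AtPrime q₂) :=
      IsScalarTower.of_algebraMap_eq fun x => (δ.commutes x).symm
    have : Module.Flat B₂ (Localization.AtPrime q₂) := IsLocalization.flat _ q₂.primeCompl
    exact (Module.flat_iff_of_isLocalization (B₂ ⊗[B] Localization.AtPrime q₀)
      (Algebra.algebraMapSubmonoid B₂ q₀.primeCompl) (Localization.AtPrime q₂)).mpr this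
  let ε := Algebra.IsPushout.cancelBaseChangeAlg A A₂ B B₂ (Localization.AtPrime q₀)
  let σ : A₂ ⊗[A] Localization.AtPrime q₀ →ₐ[A₂] Localization.AtPrime q₂ :=
    (δ.restrictScalars A₂).comp ε.symm.toAlgHom
  refine ⟨σ, ?_, fun x => ?_⟩
  · exact RingHom.Flat.comp (RingHom.Flat.of_bijective (f := ε.symm.toAlgHom.toRingHom) ε.symm.bijective) hδ
  · change δ (ε.symm (1 ⊗ₜ _)) = _
    have h1 : ε.symm ((1 : A₂) ⊗ₜ[A] algebraMap B (Localization.AtPrime q₀) x) =
        (1 : B₂) ⊗ₜ[B] algebraMap B (Localization.AtPrime q₀) x := by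
      rw [AlgEquiv.symm_apply_eq, Algebra.IsPushout.cancelBaseChangeAlg_tmul]
    rw [h1]
    change Algebra.TensorProduct.lift _ _ _ _ = _
    rw [Algebra.TensorProduct.lift_tmul, map_one, one_mul]
    exact hl₀ x

theorem isQuasiRegular_of_isH1Regular {B : Type u} [CommRing B] {c : ℕ} {f : Fin c → B}
    (h : CAlgX.IsH1Regular f) : CAlgX.IsQuasiRegular f :=
  Groth.Agent.CalgB.QuasiRegular.isQuasiRegular_of_isH1Regular h

theorem step2 {A B R S : Type u} [CommRing A] [IsNoetherianRing A] [CommRing B] [Algebra A B]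
    [Algebra.FiniteType A B] [CommRing R] [Algebra A R] [CommRing S] [Algebra R S] [Algebra B S] [Algebra A S]
    [IsScalarTower A R S] [IsScalarTower A B S] [hpush : Algebra.IsPushout A R B S] {c : ℕ} (b : Fin c → B)
    (hS : CAlgX.IsH1Regular (fun i => algebraMap B S (b i))) (q : Ideal S) [q.IsPrime]
    (hq : ∀ i, algebraMap B S (b i) ∈ q)
    (hfl : Module.Flat A (LocalizedModule (q.under B).primeCompl (B ⧸ Ideal.span (Set.range b)))) :
    Module.Flat R (Localization.AtPrime q) := by
  have : IsNoetherianRing B := Algebra.FiniteType.isNoetherianRing A B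
  -- (a), (b)
  have hRB : CAlgX.IsH1Regular (fun i => ((1 : R) ⊗ₜ[A] b i : R ⊗[A] B)) := by
    let e := Algebra.IsPushout.equiv A R B S
    have h1 := isH1Regular_map_of_flat (e.symm : S →+* R ⊗[A] B)
      (RingHom.Flat.of_bijective (f := (e.symm : S →+* R ⊗[A] B)) e.symm.bijective) hS
    have h2 : (fun i => (e.symm : S →+* R ⊗[A] B) (algebraMap B S (b i))) =
        fun i => ((1 : R) ⊗ₜ[A] b i : R ⊗[A] B) := by
      funext i
      exact Algebra.IsPushout.equiv_symm_algebraMap_right A R B S (b i)
    rw [h2] at h1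
    exact h1
  obtain ⟨A₂, hA₂, hrel⟩ := exists_level b hRB
  -- (c)
  obtain ⟨B₂, -, _, _, _, _, _, _, _, _, _, _, -⟩ :=
    exists_level_model (A := A) (B := B) (N := B) (R := R) (S := S) A₂
  have hrel₂ : ∀ a : Fin c → B, ∑ i, a i * b i = 0 →
      (fun i => algebraMap B B₂ (a i)) ∈ RelSeq.triv (fun i => algebraMap B B₂ (b i)) := by
    intro a ha
    let e := Algebra.IsPushout.equiv A A₂ B B₂
    have h1 := H1Level.map_mem_triv (e : A₂ ⊗[A] B →+* B₂) _ (hrel a ha)
    have h2 : ∀ x : B, (e : A₂ ⊗[A] B →+* B₂) ((1 : A₂) ⊗ₜ[A] x) = algebraMap B B₂ x := by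
      intro x
      change e _ = _
      rw [Algebra.IsPushout.equiv_tmul, map_one, one_mul]
    simp only [h2] at h1
    exact h1
  have : Algebra.FiniteType A A₂ := A₂.fg_iff_finiteType.mp hA₂
  have : IsNoetherianRing A₂ := Algebra.FiniteType.isNoetherianRing A A₂
  have : Algebra.FiniteType A₂ B₂ := Algebra.FiniteType.equiv inferInstance (Algebra.IsPushout.equiv A A₂ B B₂)
  have : IsNoetherianRing B₂ := Algebra.FiniteType.isNoetherianRing A₂ B₂
  -- (d)
  let q₂ : Ideal B₂ := q.under B₂
  let q₀ : Ideal B := q.under B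
  have hq₀ : q₀ = q₂.comap (algebraMap B B₂) := by
    ext x
    change algebraMap B S x ∈ q ↔ algebraMap B₂ S (algebraMap B B₂ x) ∈ q
    rw [← IsScalarTower.algebraMap_apply]
  obtain ⟨σ, hσ, hσx⟩ := exists_flat_hom (A := A) (A₂ := A₂) (B₂ := B₂) q₂ q₀ hq₀
  have hflL : Module.Flat A (Localization.AtPrime q₀ ⧸
      Ideal.span (Set.range fun i => algebraMap B (Localization.AtPrime q₀) (b i))) := by
    rw [← span_map]
    exact flat_localization_quotient _ q₀ hfl
  have g1 : Gen (algebraMap B (Localization.AtPrime q₀)) b :=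
    Gen.of_flat _ (RingHom.flat_algebraMap_iff.mpr
      (IsLocalization.flat (Localization.AtPrime q₀) q₀.primeCompl)) b
  have g2 := gen_includeRight (R := A) (R' := A₂) (fun i => algebraMap B (Localization.AtPrime q₀) (b i)) hflL
  have g3 := g1.comp g2
  have g4 := g3.comp (Gen.of_flat σ.toRingHom hσ _)
  have hcomp : ∀ x : B, (σ.toRingHom.comp ((Algebra.TensorProduct.includeRight (R := A) (A := A₂)
      (B := Localization.AtPrime q₀)).toRingHom.comp (algebraMap B (Localization.AtPrime q₀)))) x =
      algebraMap B₂ (Localization.AtPrime q₂) (algebraMap B B₂ x) := hσx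
  have hH1 := isH1Regular_of_gen g4 (fun a ha => by
    have h1 := H1Level.map_mem_triv (algebraMap B₂ (Localization.AtPrime q₂)) _ (hrel₂ a ha)
    simp only [hcomp]
    exact h1)
  simp only [hcomp] at hH1
  -- (e) the quotient is flat
  have hflD : Module.Flat A₂ (Localization.AtPrime q₂ ⧸
      Ideal.span (Set.range fun i => algebraMap B₂ (Localization.AtPrime q₂) (algebraMap B B₂ (b i)))) := by
    let a1 : Algebra (Localization.AtPrime q₀) (A₂ ⊗[A] Localization.AtPrime q₀) :=
      Algebra.TensorProduct.rightAlgebra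
    have h1 := flat_map_of_isPushout (R := A) (R' := A₂) (B := Localization.AtPrime q₀)
      (B' := A₂ ⊗[A] Localization.AtPrime q₀)
      (Ideal.span (Set.range fun i => algebraMap B (Localization.AtPrime q₀) (b i)))
    let a2 : Algebra (A₂ ⊗[A] Localization.AtPrime q₀) (Localization.AtPrime q₂) := σ.toRingHom.toAlgebra
    have t2 : IsScalarTower A₂ (A₂ ⊗[A] Localization.AtPrime q₀) (Localization.AtPrime q₂) :=
      IsScalarTower.of_algebraMap_eq (R := A₂) (S := A₂ ⊗[A] Localization.AtPrime q₀)
        (A := Localization.AtPrime q₂) fun x => (σ.commutes x).symm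
    have : Module.Flat (A₂ ⊗[A] Localization.AtPrime q₀) (Localization.AtPrime q₂) := hσ
    have h2 := flat_map_of_flat (R := A₂) (B := A₂ ⊗[A] Localization.AtPrime q₀)
      (B' := Localization.AtPrime q₂)
      ((Ideal.span (Set.range fun i => algebraMap B (Localization.AtPrime q₀) (b i))).map
        (algebraMap (Localization.AtPrime q₀) (A₂ ⊗[A] Localization.AtPrime q₀)))
    rw [span_map, span_map] at h2
    have h3 : (fun i => algebraMap (A₂ ⊗[A] Localization.AtPrime q₀) (Localization.AtPrime q₂)
        (algebraMap (Localization.AtPrime q₀) (A₂ ⊗[A] Localization.AtPrime q₀)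
          (algebraMap B (Localization.AtPrime q₀) (b i)))) =
        fun i => algebraMap B₂ (Localization.AtPrime q₂) (algebraMap B B₂ (b i)) := by
      funext i
      exact hσx (b i)
    rw [h3] at h2
    exact h2
  -- (f)
  have hne : Ideal.span (Set.range fun i => algebraMap B₂ (Localization.AtPrime q₂) (algebraMap B B₂ (b i))) ≠ ⊤ := by
    refine ne_top_of_le_ne_top (IsLocalRing.maximalIdeal.isMaximal (Localization.AtPrime q₂)).ne_top ?_
    rw [Ideal.span_le]
    rintro _ ⟨i, rfl⟩
    refine (IsLocalization.AtPrime.to_map_mem_maximal_iff (Localization.AtPrime q₂) q₂ _).mpr ?_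
    change algebraMap B₂ S (algebraMap B B₂ (b i)) ∈ q
    rw [← IsScalarTower.algebraMap_apply]
    exact hq i
  have : IsNoetherianRing (Localization.AtPrime q₂) := IsLocalization.isNoetherianRing q₂.primeCompl _ inferInstance
  have hD : Module.Flat A₂ (Localization.AtPrime q₂) :=
    flat_of_flat_quotient_pow _ hne fun n => flat_quotient_pow (R := A₂) _ hflD (isQuasiRegular_of_isH1Regular hH1) n
  -- (g)
  have i0 : IsScalarTower A B₂ S := IsScalarTower.of_algebraMap_eq fun x ↦ by
    rw [IsScalarTower.algebraMap_apply A B B₂, ← IsScalarTower.algebraMap_apply B B₂ S,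
      ← IsScalarTower.algebraMap_apply A B S]
  have i1 : Algebra.IsPushout A₂ R B₂ S :=
    (Algebra.IsPushout.comp_iff (R := A) (S := A₂) (R' := B) (S' := B₂) (T := R)
      (T' := S)).mp hpush
  rw [← flat_localizedModule_self] at hD ⊢
  exact flat_localizedModule_of_isPushout (R₀ := A₂) (R := R) (S₀ := B₂) (S := S) (M₀ := B₂) (M := S)
    (Algebra.linearMap B₂ S) (IsBaseChange.linearMap B₂ S) q q₂ rfl hD

/-- `R → S` of finite presentation, `f` an `H_1`-regular sequence in `S` with `S / (f)` flat over `R`: then `S` is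
flat over `R` at every prime containing `f`. -/
theorem flat_localization_of_isH1Regular {R S : Type u} [CommRing R] [CommRing S] [Algebra R S]
    [Algebra.FinitePresentation R S] {c : ℕ} (f : Fin c → S) (hf : CAlgX.IsH1Regular f)
    (hfl : Module.Flat R (S ⧸ Ideal.span (Set.range f))) (q : Ideal S) [q.IsPrime]
    (hq : ∀ i, f i ∈ q) : Module.Flat R (Localization.AtPrime q) := by
  classical
  obtain ⟨A, B, _, _, _, _, hA, -, hpush, hB, hT'⟩ :=
    exists_algebra_model (R := R) (S := S) ∅ (Finset.univ.image f)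
  choose b hb using fun i => hT' (f i) (Finset.mem_image_of_mem f (Finset.mem_univ i))
  have : Algebra.FiniteType ℤ A := A.fg_iff_finiteType.mp hA
  have : IsNoetherianRing A := Algebra.FiniteType.isNoetherianRing ℤ A
  let I : Ideal B := Ideal.span (Set.range b)
  have hmap : I.map (algebraMap B S) = Ideal.span (Set.range f) := by
    rw [span_map]
    simp only [hb]
  have hflM : Module.Flat R (S ⧸ I.map (algebraMap B S)) := by
    rw [hmap]
    exact hfl
  have h1 : Module.Flat R (LocalizedModule q.primeCompl (S ⧸ I.map (algebraMap B S))) :=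
    Groth.Agent.FlatA.FlatLocalize.flat_of_isLocalizedModule_tower (R := R) (S := S)
      (N := S ⧸ I.map (algebraMap B S))
      (N' := LocalizedModule q.primeCompl (S ⧸ I.map (algebraMap B S))) q.primeCompl
      (LocalizedModule.mkLinearMap q.primeCompl (S ⧸ I.map (algebraMap B S)))
  obtain ⟨A₁, hA₁, H⟩ := exists_subalgebra_flat (A := A) (B := B) (N := B ⧸ I) (R := R) (S := S)
    (M := S ⧸ I.map (algebraMap B S)) (quotMap (B' := S) I) (isBaseChange_quotMap I) q h1
  obtain ⟨B₁, -, _, _, _, _, _, _, _, _, _, _, -⟩ :=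
    exists_level_model (A := A) (B := B) (N := B) (R := R) (S := S) A₁
  have hflat := H A₁ le_rfl B₁ (B₁ ⧸ I.map (algebraMap B B₁)) (quotMap (B' := B₁) I) (isBaseChange_quotMap I)
  have : Algebra.FiniteType A A₁ := A₁.fg_iff_finiteType.mp hA₁
  have : IsNoetherianRing A₁ := Algebra.FiniteType.isNoetherianRing A A₁
  have : Algebra.FiniteType A₁ B₁ := Algebra.FiniteType.equiv inferInstance (Algebra.IsPushout.equiv A A₁ B B₁)
  have i0 : IsScalarTower A B₁ S := IsScalarTower.of_algebraMap_eq fun x ↦ by
    rw [IsScalarTower.algebraMap_apply A B B₁, ← IsScalarTower.algebraMap_apply B B₁ S,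
      ← IsScalarTower.algebraMap_apply A B S]
  have i1 : Algebra.IsPushout A₁ R B₁ S :=
    (Algebra.IsPushout.comp_iff (R := A) (S := A₁) (R' := B) (S' := B₁) (T := R)
      (T' := S)).mp hpush
  have hbS : ∀ i, algebraMap B₁ S (algebraMap B B₁ (b i)) = f i := fun i => by
    rw [← IsScalarTower.algebraMap_apply]
    exact hb i
  refine step2 (A := A₁) (B := B₁) (R := R) (S := S) (fun i => algebraMap B B₁ (b i)) ?_ q ?_ ?_
  · simp only [hbS]
    exact hf
  · intro i
    rw [hbS]
    exact hq i
  · rw [← span_map]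
    exact hflat

end K472.H1Flat
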