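import Groth.Agent.SDiv.K472.RelSeq
import Groth.Agent.SDiv.K473.SeqFlat
import Groth.Agent.FlatA.SyzDescent
import Mathlib.RingTheory.TensorProduct.DirectLimitFG
import Mathlib.LinearAlgebra.TensorProduct.RightExactness

/-!
# Relations of a sequence under base change, and descent of `H_1`-regularity to a finite level

* `Gen φ f`: every relation among the `φ (f i)` is a combination of images of relations among the `f i`.
* `Gen.of_flat`, `Gen.comp`, `gen_includeRight` (base change with flat quotient).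
* `exists_level`: `H_1`-regularity of `1 ⊗ f` in `R ⊗ B` trivializes all relations of `f` in `A₂ ⊗ B` for some
  finitely generated `A₂ ⊆ R`.
-/

set_option autoImplicit false
universe u

open TensorProduct

namespace K472.H1Level

open K472.RelSeq K473.SeqFlat

section Gen

variable {B D E : Type u} [CommRing B] [CommRing D] [CommRing E]

/-- the span of the images of the relations among the `f i` -/
def genSpan (φ : B →+* D) {c : ℕ} (f : Fin c → B) : Submodule D (Fin c → D) :=
  Submodule.span D {w : Fin c → D | ∃ a : Fin c → B, ∑ i, a i * f i = 0 ∧ w = fun i => φ (a i)}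

/-- relations upstairs are generated by relations downstairs -/
def Gen (φ : B →+* D) {c : ℕ} (f : Fin c → B) : Prop :=
  ∀ v : Fin c → D, ∑ i, v i * φ (f i) = 0 → v ∈ genSpan φ f

theorem Gen.of_flat (φ : B →+* D) (hφ : φ.Flat) {c : ℕ} (f : Fin c → B) : Gen φ f := by
  intro v hv
  obtain ⟨n, b, y, hy, hb⟩ := exists_relations φ hφ f v hv
  have h1 : v = ∑ j, y j • (fun i ↦ φ (b i j)) := by
    funext i
    rw [hy i, Finset.sum_apply]
    exact Finset.sum_congr rfl fun j _ ↦ by simp [mul_comm]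
  rw [h1]
  exact Submodule.sum_mem _ fun j _ ↦ Submodule.smul_mem _ _ (Submodule.subset_span ⟨_, hb j, rfl⟩)

/-- semilinear induction on spans -/
theorem map_mem_of_span (ψ : D →+* E) {c : ℕ} {s : Set (Fin c → D)} {P : Submodule E (Fin c → E)}
    (h : ∀ x ∈ s, (fun i => ψ (x i)) ∈ P) {x : Fin c → D} (hx : x ∈ Submodule.span D s) :
    (fun i => ψ (x i)) ∈ P := by
  induction hx using Submodule.span_induction with
  | mem x hx => exact h x hx
  | zero =>
    have : (fun i => ψ ((0 : Fin c → D) i)) = 0 := by funext i; simp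
    rw [this]
    exact Submodule.zero_mem _
  | add x y _ _ hx hy =>
    have h0 : (fun i => ψ ((x + y) i)) = (fun i => ψ (x i)) + (fun i => ψ (y i)) := by
      funext i; simp
    rw [h0]
    exact Submodule.add_mem _ hx hy
  | smul r x _ hx =>
    have h0 : (fun i => ψ ((r • x) i)) = ψ r • (fun i => ψ (x i)) := by
      funext i; simp
    rw [h0]
    exact Submodule.smul_mem _ _ hx

theorem Gen.comp {φ : B →+* D} {ψ : D →+* E} {c : ℕ} {f : Fin c → B} (h : Gen φ f)
    (h' : Gen ψ (fun i => φ (f i))) : Gen (ψ.comp φ) f := by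
  intro v hv
  have h1 := h' v hv
  refine (Submodule.span_le.mpr ?_) h1
  rintro w ⟨a, ha, rfl⟩
  refine map_mem_of_span ψ ?_ (h a ha)
  rintro x ⟨b, hb, rfl⟩
  exact Submodule.subset_span ⟨b, hb, rfl⟩

theorem isH1Regular_of_gen {φ : B →+* D} {c : ℕ} {f : Fin c → B} (h : Gen φ f)
    (h' : ∀ a : Fin c → B, ∑ i, a i * f i = 0 → (fun i => φ (a i)) ∈ RelSeq.triv (fun i => φ (f i))) :
    CAlgX.IsH1Regular (fun i => φ (f i)) := by
  intro v hv
  refine (Submodule.span_le.mpr ?_) (h v hv)
  rintro w ⟨a, ha, rfl⟩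
  exact h' a ha

theorem map_mem_triv (φ : B →+* D) {c : ℕ} (f : Fin c → B) {a : Fin c → B} (ha : a ∈ RelSeq.triv f) :
    (fun i => φ (a i)) ∈ RelSeq.triv (fun i => φ (f i)) := by
  refine map_mem_of_span φ ?_ ha
  rintro x ⟨i, j, rfl⟩
  refine Submodule.subset_span ⟨i, j, ?_⟩
  funext k
  by_cases h1 : k = i
  · subst h1
    by_cases h2 : k = j
    · subst h2; simp
    · simp [Pi.single_eq_of_ne h2]
  · by_cases h2 : k = j
    · subst h2; simp [Pi.single_eq_of_ne h1]
    · simp [Pi.single_eq_of_ne h1, Pi.single_eq_of_ne h2]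

end Gen

section Tensor

variable {R B R' : Type u} [CommRing R] [CommRing B] [Algebra R B] [CommRing R'] [Algebra R R'] {c : ℕ} (f : Fin c → B)

/-- base change with flat quotient -/
theorem gen_includeRight (hfl : Module.Flat R (B ⧸ Ideal.span (Set.range f))) :
    Gen (Algebra.TensorProduct.includeRight (R := R) (A := R') (B := B)).toRingHom f := by
  have : Module.Flat R (B ⧸ LinearMap.range (rel R f)) := by
    rw [range_rel]
    exact hfl
  intro v hv
  set x := (TensorProduct.piRight R R R' (fun _ : Fin c => B)).symm v with hx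
  have h1 : (rel R f).lTensor R' x = 0 := by
    rw [rel_lTensor, hx, LinearEquiv.apply_symm_apply]
    exact hv
  have h2 := ker_lTensor_le (rel R f) R' h1
  obtain ⟨y, hy⟩ := h2
  have h3 : v = TensorProduct.piRight R R R' (fun _ : Fin c => B)
      ((LinearMap.ker (rel R f)).subtype.lTensor R' y) := by
    rw [hy, hx, LinearEquiv.apply_symm_apply]
  rw [h3]
  clear h1 h3 hy hx
  induction y using TensorProduct.induction_on with
  | zero => rw [map_zero, map_zero]; exact Submodule.zero_mem _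
  | add a b ha hb => rw [map_add, map_add]; exact Submodule.add_mem _ ha hb
  | tmul r a =>
    have h4 : TensorProduct.piRight R R R' (fun _ : Fin c => B)
        ((LinearMap.ker (rel R f)).subtype.lTensor R' (r ⊗ₜ[R] a)) =
        (r ⊗ₜ[R] (1 : B)) • (fun i => (Algebra.TensorProduct.includeRight (R := R) (A := R') (B := B)) (a.1 i)) := by
      funext i
      rw [LinearMap.lTensor_tmul, TensorProduct.piRight_apply, TensorProduct.piRightHom_tmul]
      simp
    rw [h4]
    refine Submodule.smul_mem _ _ (Submodule.subset_span ⟨a.1, ?_, rfl⟩)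
    exact a.2

/-- the quotient by the trivial relations -/
abbrev Q (R : Type u) {B : Type u} [CommRing R] [CommRing B] [Algebra R B] {c : ℕ} (f : Fin c → B) : Type u :=
  (Fin c → B) ⧸ (RelSeq.triv f).restrictScalars R

/-- trivial relations in `R' ⊗ B` vanish in `R' ⊗ Q` -/
theorem lTensor_mkQ_of_mem_triv {v : Fin c → R' ⊗[R] B}
    (hv : v ∈ RelSeq.triv (fun i => ((1 : R') ⊗ₜ[R] f i : R' ⊗[R] B))) :
    (((RelSeq.triv f).restrictScalars R).mkQ.lTensor R')
      ((TensorProduct.piRight R R R' (fun _ : Fin c => B)).symm v) = 0 := by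
  -- reduce to elements of the form `s • w`, with `s` in `R' ⊗ B`
  have key : ∀ (s : R' ⊗[R] B) (w : Fin c → R' ⊗[R] B),
      (∃ i j : Fin c, w = Pi.single i ((1 : R') ⊗ₜ[R] f j) - Pi.single j ((1 : R') ⊗ₜ[R] f i)) →
      (((RelSeq.triv f).restrictScalars R).mkQ.lTensor R')
      ((TensorProduct.piRight R R R' (fun _ : Fin c => B)).symm (s • w)) = 0 := by
    rintro s w ⟨i, j, rfl⟩
    induction s using TensorProduct.induction_on with
    | zero => rw [zero_smul, map_zero, map_zero]
    | add a b ha hb => rw [add_smul, map_add, map_add, ha, hb, add_zero]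
    | tmul r b =>
      have h1 : (TensorProduct.piRight R R R' (fun _ : Fin c => B)).symm
          ((r ⊗ₜ[R] b : R' ⊗[R] B) • (Pi.single i ((1 : R') ⊗ₜ[R] f j) - Pi.single j ((1 : R') ⊗ₜ[R] f i))) =
          r ⊗ₜ[R] (b • (Pi.single i (f j) - Pi.single j (f i) : Fin c → B)) := by
        rw [LinearEquiv.symm_apply_eq, TensorProduct.piRight_apply, TensorProduct.piRightHom_tmul]
        funext k
        simp only [Pi.smul_apply, Pi.sub_apply, smul_eq_mul, mul_sub, TensorProduct.tmul_sub]
        congr 1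
        · by_cases h : k = i
          · subst h; simp
          · simp [Pi.single_eq_of_ne h]
        · by_cases h : k = j
          · subst h; simp
          · simp [Pi.single_eq_of_ne h]
      rw [h1, LinearMap.lTensor_tmul]
      have h2 : ((RelSeq.triv f).restrictScalars R).mkQ (b • (Pi.single i (f j) - Pi.single j (f i) : Fin c → B)) = 0 := by
        rw [Submodule.mkQ_apply, Submodule.Quotient.mk_eq_zero, Submodule.restrictScalars_mem]
        exact Submodule.smul_mem (RelSeq.triv f) b (Submodule.subset_span ⟨i, j, rfl⟩)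
      rw [h2, TensorProduct.tmul_zero]
  obtain ⟨n, s, w, rfl⟩ := Submodule.mem_span_set'.mp hv
  rw [map_sum, map_sum]
  exact Finset.sum_eq_zero fun k _ => key (s k) _ (w k).2

/-- conversely -/
theorem mem_triv_of_lTensor_mkQ {v : Fin c → R' ⊗[R] B}
    (hv : (((RelSeq.triv f).restrictScalars R).mkQ.lTensor R')
      ((TensorProduct.piRight R R R' (fun _ : Fin c => B)).symm v) = 0) :
    v ∈ RelSeq.triv (fun i => ((1 : R') ⊗ₜ[R] f i : R' ⊗[R] B)) := by
  have hex : Function.Exact ((RelSeq.triv f).restrictScalars R).subtype ((RelSeq.triv f).restrictScalars R).mkQ :=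
    LinearMap.exact_subtype_mkQ _
  obtain ⟨y, hy⟩ := (lTensor_exact R' hex (Submodule.mkQ_surjective _) _).mp hv
  have h3 : v = TensorProduct.piRight R R R' (fun _ : Fin c => B)
      ((((RelSeq.triv f).restrictScalars R).subtype).lTensor R' y) := by
    rw [hy, LinearEquiv.apply_symm_apply]
  rw [h3]
  clear h3 hy hv
  induction y using TensorProduct.induction_on with
  | zero => rw [map_zero, map_zero]; exact Submodule.zero_mem _
  | add a b ha hb => rw [map_add, map_add]; exact Submodule.add_mem _ ha hb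
  | tmul r a =>
    have h4 : TensorProduct.piRight R R R' (fun _ : Fin c => B)
        ((((RelSeq.triv f).restrictScalars R).subtype).lTensor R' (r ⊗ₜ[R] a)) =
        (r ⊗ₜ[R] (1 : B)) • (fun i => ((1 : R') ⊗ₜ[R] (a.1 i) : R' ⊗[R] B)) := by
      funext i
      rw [LinearMap.lTensor_tmul, TensorProduct.piRight_apply, TensorProduct.piRightHom_tmul]
      simp
    rw [h4]
    exact Submodule.smul_mem _ _ (one_tmul_mem_triv f R' a.2)

theorem piRight_symm_one_tmul (a : Fin c → B) : (TensorProduct.piRight R R R' (fun _ : Fin c => B)).symm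
    (fun i => ((1 : R') ⊗ₜ[R] a i : R' ⊗[R] B)) = (1 : R') ⊗ₜ[R] a := by
  rw [LinearEquiv.symm_apply_eq, TensorProduct.piRight_apply, TensorProduct.piRightHom_tmul]

/-- a relation which is trivial in the limit is trivial at a finite level -/
theorem exists_level_one (a : Fin c → B)
    (h : (fun i => ((1 : R') ⊗ₜ[R] a i : R' ⊗[R] B)) ∈ RelSeq.triv (fun i => ((1 : R') ⊗ₜ[R] f i : R' ⊗[R] B))) :
    ∃ A : Subalgebra R R', A.FG ∧
      (fun i => ((1 : A) ⊗ₜ[R] a i : A ⊗[R] B)) ∈ RelSeq.triv (fun i => ((1 : A) ⊗ₜ[R] f i : A ⊗[R] B)) := by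
  have h1 := lTensor_mkQ_of_mem_triv f h
  rw [piRight_symm_one_tmul, LinearMap.lTensor_tmul] at h1
  have hbot : (⊥ : Subalgebra R R').FG := Subalgebra.fg_bot
  obtain ⟨A, hA, hAfg, hz⟩ := TensorProduct.Algebra.eq_of_fg_of_subtype_eq hbot
    (t := (1 : (⊥ : Subalgebra R R')) ⊗ₜ[R] ((RelSeq.triv f).restrictScalars R).mkQ a) (t' := 0) (by
      rw [LinearMap.rTensor_tmul, map_zero]
      exact h1)
  rw [LinearMap.rTensor_tmul, map_zero] at hz
  refine ⟨A, hAfg, mem_triv_of_lTensor_mkQ f ?_⟩
  rw [piRight_symm_one_tmul, LinearMap.lTensor_tmul]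
  exact hz

theorem mem_triv_mono (a : Fin c → B) {A₁ A₂ : Subalgebra R R'} (hle : A₁ ≤ A₂)
    (h : (fun i => ((1 : A₁) ⊗ₜ[R] a i : A₁ ⊗[R] B)) ∈ RelSeq.triv (fun i => ((1 : A₁) ⊗ₜ[R] f i : A₁ ⊗[R] B))) :
    (fun i => ((1 : A₂) ⊗ₜ[R] a i : A₂ ⊗[R] B)) ∈ RelSeq.triv (fun i => ((1 : A₂) ⊗ₜ[R] f i : A₂ ⊗[R] B)) := by
  have h1 := map_mem_triv (Algebra.TensorProduct.map (Subalgebra.inclusion hle) (AlgHom.id R B)).toRingHom _ h
  simpa using h1

/-- **Finite level.** If `1 ⊗ f` is `H_1`-regular in `R' ⊗ B`, `B` Noetherian, all relations of `f` become trivial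
in `A ⊗ B` for some finitely generated `A ⊆ R'`. -/
theorem exists_level [IsNoetherianRing B]
    (h : CAlgX.IsH1Regular (fun i => ((1 : R') ⊗ₜ[R] f i : R' ⊗[R] B))) :
    ∃ A : Subalgebra R R', A.FG ∧ ∀ a : Fin c → B, ∑ i, a i * f i = 0 →
      (fun i => ((1 : A) ⊗ₜ[R] a i : A ⊗[R] B)) ∈ RelSeq.triv (fun i => ((1 : A) ⊗ₜ[R] f i : A ⊗[R] B)) := by
  let K : Submodule B (Fin c → B) := LinearMap.ker (rel B f)
  obtain ⟨s, hs⟩ : K.FG := IsNoetherian.noetherian K
  have hK : ∀ a : Fin c → B, a ∈ K ↔ ∑ i, a i * f i = 0 := fun a => Iff.rfl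
  obtain ⟨A, hA, hAs⟩ := Groth.Agent.FlatA.SyzDescent.exists_fg_forall (A := R) (R := R') (ι := s)
    (fun a A => (fun i => ((1 : A) ⊗ₜ[R] a.1 i : A ⊗[R] B)) ∈
      RelSeq.triv (fun i => ((1 : A) ⊗ₜ[R] f i : A ⊗[R] B)))
    (fun a A₁ A₂ hle h => mem_triv_mono f a.1 hle h)
    (fun a => exists_level_one f a.1 (h _ (by
      have ha : a.1 ∈ K := by rw [← hs]; exact Submodule.subset_span a.2
      have h2 := congrArg (fun b => ((1 : R') ⊗ₜ[R] b : R' ⊗[R] B)) ((hK _).mp ha)
      simp only [TensorProduct.tmul_sum, TensorProduct.tmul_zero] at h2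
      rw [← h2]
      refine Finset.sum_congr rfl fun i _ => ?_
      rw [Algebra.TensorProduct.tmul_mul_tmul, one_mul])))
  refine ⟨A, hA, fun a ha => ?_⟩
  have ha' : a ∈ Submodule.span B (s : Set (Fin c → B)) := by rw [hs]; exact ha
  exact map_mem_of_span (Algebra.TensorProduct.includeRight (R := R) (A := A) (B := B)).toRingHom
    (fun x hx => hAs ⟨x, hx⟩) ha'

end Tensor

end K472.H1Level
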