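import Groth.Prelude.Def_CAlgX
import Groth.Agent.Divis.FlatExt
import Mathlib.LinearAlgebra.TensorProduct.Pi
import Mathlib.LinearAlgebra.TensorProduct.RightExactness
import Mathlib.RingTheory.MvPolynomial.Homogeneous
import Mathlib.RingTheory.Ideal.Quotient.PowTransition
import Mathlib.RingTheory.Flat.Basic

/-!
# Base change of quasi-regular and `H_1`-regular sequences with flat quotient

* `ker_lTensor_le`: if the cokernel of `φ` is flat, the kernel of `Q ⊗ φ` comes from the kernel of `φ`.
* `isH1Regular_baseChange`, `isQuasiRegular_baseChange`: `R → B`, `f` in `B` of the respective kind and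
  `B / (f)` flat over `R`: then the images of `f` in `R' ⊗ B` are of the same kind.
* `flat_quotient_pow`: if `f` is quasi-regular with `B / (f)` flat over `R`, so is `B / (f)^n`.
-/

set_option autoImplicit false
universe u v w

open TensorProduct MvPolynomial

namespace K472.RelSeq

section General

variable {R : Type*} [CommRing R] {M N : Type*} [AddCommGroup M] [Module R M] [AddCommGroup N] [Module R N]

theorem ker_lTensor_le (φ : M →ₗ[R] N) [Module.Flat R (N ⧸ LinearMap.range φ)] (Q : Type*)
    [AddCommGroup Q] [Module R Q] :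
    LinearMap.ker (φ.lTensor Q) ≤ LinearMap.range ((LinearMap.ker φ).subtype.lTensor Q) := by
  intro x hx
  have h1 : Function.Injective ((LinearMap.range φ).subtype.lTensor Q) :=
    Groth.Agent.Divis.FlatExt.lTensor_injective_of_flat (Submodule.injective_subtype _)
      (LinearMap.exact_subtype_mkQ _) (Submodule.mkQ_surjective _) Q
  have h3 : φ.rangeRestrict.lTensor Q x = 0 := by
    apply h1
    rw [map_zero, ← LinearMap.comp_apply, ← LinearMap.lTensor_comp]
    exact hx
  have h4 : Function.Exact (LinearMap.ker φ).subtype φ.rangeRestrict := by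
    intro y
    constructor
    · intro h
      exact ⟨⟨y, congrArg Subtype.val h⟩, rfl⟩
    · rintro ⟨z, rfl⟩
      exact Subtype.ext z.2
  exact (lTensor_exact Q h4 φ.surjective_rangeRestrict x).mp h3

end General

section H1

variable {R : Type u} {B : Type v} [CommRing R] [CommRing B] [Algebra R B] {c : ℕ} (f : Fin c → B)

/-- the relation map -/
noncomputable def rel (R : Type u) {B : Type v} [CommRing R] [CommRing B] [Algebra R B] {c : ℕ} (f : Fin c → B) :
    (Fin c → B) →ₗ[R] B where
  toFun a := ∑ i, a i * f i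
  map_add' a b := by simp [add_mul, Finset.sum_add_distrib]
  map_smul' r a := by simp [Finset.smul_sum]

/-- the trivial relations -/
def triv {B : Type v} [CommRing B] {c : ℕ} (f : Fin c → B) : Submodule B (Fin c → B) :=
  Submodule.span B {v : Fin c → B | ∃ i j : Fin c, v = Pi.single i (f j) - Pi.single j (f i)}

variable (R' : Type w) [CommRing R'] [Algebra R R']

theorem rel_lTensor (x : R' ⊗[R] (Fin c → B)) : (rel R f).lTensor R' x =
    ∑ i, (TensorProduct.piRight R R R' (fun _ : Fin c => B) x) i * ((1 : R') ⊗ₜ[R] f i) := by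
  induction x using TensorProduct.induction_on with
  | zero => simp
  | tmul r a =>
    rw [LinearMap.lTensor_tmul]
    change r ⊗ₜ[R] (∑ i, a i * f i) = _
    rw [TensorProduct.tmul_sum]
    refine Finset.sum_congr rfl fun i _ => ?_
    rw [TensorProduct.piRight_apply, TensorProduct.piRightHom_tmul, Algebra.TensorProduct.tmul_mul_tmul, mul_one]
  | add x y hx hy =>
    rw [map_add, hx, hy, map_add, ← Finset.sum_add_distrib]
    refine Finset.sum_congr rfl fun i _ => ?_
    rw [Pi.add_apply, add_mul]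

theorem one_tmul_mem_triv {t : Fin c → B} (ht : t ∈ triv f) :
    (fun i => (1 : R') ⊗ₜ[R] t i) ∈ triv (fun i => (1 : R') ⊗ₜ[R] f i) := by
  induction ht using Submodule.span_induction with
  | mem v hv =>
    obtain ⟨i, j, rfl⟩ := hv
    refine Submodule.subset_span ⟨i, j, ?_⟩
    funext k
    simp only [Pi.sub_apply, TensorProduct.tmul_sub]
    congr 1
    · by_cases h : k = i
      · subst h; simp
      · simp [Pi.single_eq_of_ne h]
    · by_cases h : k = j
      · subst h; simp
      · simp [Pi.single_eq_of_ne h]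
  | zero =>
    simp only [Pi.zero_apply, TensorProduct.tmul_zero]
    exact Submodule.zero_mem _
  | add v w _ _ hv hw =>
    have : (fun i => (1 : R') ⊗ₜ[R] (v + w) i) =
        (fun i => (1 : R') ⊗ₜ[R] v i) + (fun i => (1 : R') ⊗ₜ[R] w i) := by
      funext i
      simp [TensorProduct.tmul_add]
    rw [this]
    exact Submodule.add_mem _ hv hw
  | smul b v _ hv =>
    have : (fun i => (1 : R') ⊗ₜ[R] (b • v) i) =
        ((1 : R') ⊗ₜ[R] b) • (fun i => (1 : R') ⊗ₜ[R] v i) := by
      funext i
      simp [Algebra.TensorProduct.tmul_mul_tmul]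
    rw [this]
    exact Submodule.smul_mem _ _ hv

theorem range_rel : LinearMap.range (rel R f) = (Ideal.span (Set.range f)).restrictScalars R := by
  ext x
  rw [Submodule.restrictScalars_mem, Ideal.mem_span_range_iff_exists_fun]
  rfl

/-- the quotient by the range of a map with range an ideal -/
noncomputable def quotRangeEquiv {M : Type*} [AddCommGroup M] [Module R M] (φ : M →ₗ[R] B) (J : Ideal B)
    (h : LinearMap.range φ = J.restrictScalars R) : (B ⧸ LinearMap.range φ) ≃ₗ[R] (B ⧸ J) :=
  LinearEquiv.ofBijective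
    (Submodule.liftQ _ (Ideal.Quotient.mkₐ R J).toLinearMap (by
      intro x hx
      rw [h, Submodule.restrictScalars_mem] at hx
      exact Ideal.Quotient.eq_zero_iff_mem.mpr hx))
    ⟨by
      rw [← LinearMap.ker_eq_bot, Submodule.ker_liftQ_eq_bot']
      ext x
      rw [h, Submodule.restrictScalars_mem]
      exact Ideal.Quotient.eq_zero_iff_mem.symm, by
      intro y
      obtain ⟨y, rfl⟩ := Ideal.Quotient.mk_surjective y
      exact ⟨Submodule.Quotient.mk y, rfl⟩⟩

theorem isH1Regular_baseChange (hfl : Module.Flat R (B ⧸ Ideal.span (Set.range f)))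
    (hf : CAlgX.IsH1Regular f) : CAlgX.IsH1Regular (fun i => ((1 : R') ⊗ₜ[R] f i : R' ⊗[R] B)) := by
  intro a' ha'
  let e := TensorProduct.piRight R R R' (fun _ : Fin c => B)
  have hfl' : Module.Flat R (B ⧸ LinearMap.range (rel R f)) :=
    Module.Flat.of_linearEquiv (quotRangeEquiv (rel R f) _ (range_rel f))
  have h1 : (rel R f).lTensor R' (e.symm a') = 0 := by
    rw [rel_lTensor, LinearEquiv.apply_symm_apply]
    exact ha'
  obtain ⟨y, hy⟩ := ker_lTensor_le (rel R f) R' h1
  have key : ∀ y : R' ⊗[R] (LinearMap.ker (rel R f)),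
      e ((LinearMap.ker (rel R f)).subtype.lTensor R' y) ∈ triv (fun i => (1 : R') ⊗ₜ[R] f i) := by
    intro y
    induction y using TensorProduct.induction_on with
    | zero => rw [map_zero, map_zero]; exact Submodule.zero_mem _
    | tmul r t =>
      have h2 : e ((LinearMap.ker (rel R f)).subtype.lTensor R' (r ⊗ₜ t)) =
          (r ⊗ₜ[R] (1 : B)) • (fun i => (1 : R') ⊗ₜ[R] t.1 i) := by
        funext i
        rw [LinearMap.lTensor_tmul]
        simp only [e, Submodule.subtype_apply, TensorProduct.piRight_apply, TensorProduct.piRightHom_tmul,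
          Pi.smul_apply, smul_eq_mul, Algebra.TensorProduct.tmul_mul_tmul, mul_one, one_mul]
      rw [h2]
      exact Submodule.smul_mem _ _ (one_tmul_mem_triv f R' (hf t.1 t.2))
    | add x y hx hy => rw [map_add, map_add]; exact Submodule.add_mem _ hx hy
  have h3 := key y
  rw [hy, LinearEquiv.apply_symm_apply] at h3
  exact h3

end H1

section Quasi

variable {B : Type v} [CommRing B] {c : ℕ}

/-- exponents of degree `n` -/
abbrev D (c n : ℕ) : Type := {d : Fin c →₀ ℕ // d.degree = n}

instance D_finite (n : ℕ) : Finite (D c n) :=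
  (Set.Finite.subset (Finsupp.finite_of_degree_le n) (fun _ hd => le_of_eq hd) :
      ({d : Fin c →₀ ℕ | d.degree = n}).Finite).to_subtype

noncomputable instance D_fintype (n : ℕ) : Fintype (D c n) := Fintype.ofFinite _

/-- the monomial with exponent `d` in the elements `f` -/
noncomputable def mono (f : Fin c → B) (d : Fin c →₀ ℕ) : B := d.prod fun i k => f i ^ k

/-- the homogeneous polynomial with given coefficients -/
noncomputable def poly {n : ℕ} (a : D c n → B) : MvPolynomial (Fin c) B := ∑ d : D c n, monomial d.1 (a d)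

theorem poly_isHomogeneous {n : ℕ} (a : D c n → B) : (poly a).IsHomogeneous n :=
  MvPolynomial.IsHomogeneous.sum _ _ _ fun d _ => isHomogeneous_monomial _ d.2

theorem coeff_poly {n : ℕ} (a : D c n → B) (d : D c n) : (poly a).coeff d.1 = a d := by
  rw [poly, coeff_sum, Finset.sum_eq_single d]
  · simp
  · intro e _ he
    rw [coeff_monomial, if_neg (fun h => he (Subtype.ext h))]
  · intro h; exact absurd (Finset.mem_univ _) h

theorem eval_poly {n : ℕ} (f : Fin c → B) (a : D c n → B) :
    eval f (poly a) = ∑ d : D c n, a d * mono f d.1 := by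
  rw [poly, map_sum]
  refine Finset.sum_congr rfl fun d _ => ?_
  rw [eval_monomial]
  rfl

theorem degree_eq_of_isHomogeneous {n : ℕ} {P : MvPolynomial (Fin c) B} (hP : P.IsHomogeneous n)
    {d : Fin c →₀ ℕ} (h : P.coeff d ≠ 0) : d.degree = n := by
  have := hP h
  rwa [Finsupp.degree_eq_weight_one]

theorem poly_coeff {n : ℕ} {P : MvPolynomial (Fin c) B} (hP : P.IsHomogeneous n) :
    poly (fun d : D c n => P.coeff d.1) = P := by
  ext d
  by_cases hd : d.degree = n
  · exact coeff_poly (fun d : D c n => P.coeff d.1) ⟨d, hd⟩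
  · have h1 : P.coeff d = 0 := by
      by_contra h
      exact hd (degree_eq_of_isHomogeneous hP h)
    have h2 : (poly (fun d : D c n => P.coeff d.1)).coeff d = 0 := by
      by_contra h
      exact hd (degree_eq_of_isHomogeneous (poly_isHomogeneous _) h)
    rw [h1, h2]

theorem isQuasiRegular_iff (f : Fin c → B) : CAlgX.IsQuasiRegular f ↔
    ∀ (n : ℕ) (a : D c n → B), ∑ d : D c n, a d * mono f d.1 ∈ Ideal.span (Set.range f) ^ (n + 1) →
      ∀ d, a d ∈ Ideal.span (Set.range f) := by
  constructor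
  · intro h n a ha d
    rw [← eval_poly] at ha
    have := h n (poly a) (poly_isHomogeneous a) ha d.1
    rwa [coeff_poly] at this
  · intro h n P hP hev d
    by_cases hd : P.coeff d = 0
    · rw [hd]; exact Ideal.zero_mem _
    · rw [← poly_coeff hP, eval_poly] at hev
      exact h n _ hev ⟨d, degree_eq_of_isHomogeneous hP hd⟩

theorem mono_mem (f : Fin c → B) {n : ℕ} (d : D c n) : mono f d.1 ∈ Ideal.span (Set.range f) ^ n := by
  rw [Ideal.mem_span_pow_iff_exists_isHomogeneous]
  refine ⟨monomial d.1 1, isHomogeneous_monomial _ d.2, ?_⟩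
  rw [eval_monomial, one_mul]
  rfl

theorem mem_pow_iff (f : Fin c → B) (n : ℕ) (x : B) : x ∈ Ideal.span (Set.range f) ^ n ↔
    ∃ a : D c n → B, ∑ d : D c n, a d * mono f d.1 = x := by
  rw [Ideal.mem_span_pow_iff_exists_isHomogeneous]
  constructor
  · rintro ⟨P, hP, rfl⟩
    refine ⟨fun d => P.coeff d.1, ?_⟩
    rw [← eval_poly, poly_coeff hP]
  · rintro ⟨a, rfl⟩
    exact ⟨poly a, poly_isHomogeneous a, eval_poly f a⟩

end Quasi

section QuasiBC

variable (R : Type u) {B : Type v} [CommRing R] [CommRing B] [Algebra R B] {c : ℕ} (f : Fin c → B)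

/-- `a ↦ Σ a_d f^d` -/
noncomputable def smap (n : ℕ) : (D c n → B) →ₗ[R] B where
  toFun a := ∑ d : D c n, a d * mono f d.1
  map_add' a b := by
    rw [← Finset.sum_add_distrib]
    refine Finset.sum_congr rfl fun d _ => ?_
    rw [Pi.add_apply, add_mul]
  map_smul' r a := by
    rw [RingHom.id_apply, Finset.smul_sum]
    refine Finset.sum_congr rfl fun d _ => ?_
    rw [Pi.smul_apply, smul_mul_assoc]

/-- `a ↦ Σ a_d f^d` modulo `J^{n+1}` -/
noncomputable def gmap (n : ℕ) : (D c n → B) →ₗ[R] (B ⧸ Ideal.span (Set.range f) ^ (n + 1)) :=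
  (Ideal.Quotient.mkₐ R (Ideal.span (Set.range f) ^ (n + 1))).toLinearMap ∘ₗ smap R f n

theorem gmap_apply (n : ℕ) (a : D c n → B) : gmap R f n a =
    Ideal.Quotient.mk (Ideal.span (Set.range f) ^ (n + 1)) (∑ d : D c n, a d * mono f d.1) := rfl

/-- `B / J^{n+1} → B / J^n` -/
noncomputable def fac (n : ℕ) : (B ⧸ Ideal.span (Set.range f) ^ (n + 1)) →ₗ[R] (B ⧸ Ideal.span (Set.range f) ^ n) :=
  (Ideal.Quotient.factorₐ R (Ideal.pow_le_pow_right (Nat.le_succ n))).toLinearMap

theorem fac_mk (n : ℕ) (b : B) : fac R f n (Ideal.Quotient.mk _ b) = Ideal.Quotient.mk _ b := rfl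

theorem fac_surjective (n : ℕ) : Function.Surjective (fac R f n) := by
  intro x
  obtain ⟨x, rfl⟩ := Ideal.Quotient.mk_surjective x
  exact ⟨Ideal.Quotient.mk _ x, rfl⟩

theorem exact_gmap_fac (n : ℕ) : Function.Exact (gmap R f n) (fac R f n) := by
  intro x
  obtain ⟨x, rfl⟩ := Ideal.Quotient.mk_surjective x
  rw [fac_mk, Ideal.Quotient.eq_zero_iff_mem]
  constructor
  · intro hx
    obtain ⟨a, rfl⟩ := (mem_pow_iff f n x).mp hx
    exact ⟨a, rfl⟩
  · rintro ⟨a, ha⟩
    rw [gmap_apply, ← sub_eq_zero, ← map_sub, Ideal.Quotient.eq_zero_iff_mem] at ha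
    have h1 := Ideal.pow_le_pow_right (I := Ideal.span (Set.range f)) (Nat.le_succ n) ha
    have h2 : ∑ d : D c n, a d * mono f d.1 ∈ Ideal.span (Set.range f) ^ n :=
      (mem_pow_iff f n _).mpr ⟨a, rfl⟩
    have h3 := Ideal.sub_mem _ h2 h1
    rwa [sub_sub_cancel] at h3

theorem ker_gmap (hf : CAlgX.IsQuasiRegular f) (n : ℕ) (a : D c n → B) :
    gmap R f n a = 0 ↔ ∀ d, a d ∈ Ideal.span (Set.range f) := by
  rw [gmap_apply, Ideal.Quotient.eq_zero_iff_mem]
  constructor
  · exact (isQuasiRegular_iff f).mp hf n a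
  · intro h
    rw [pow_succ']
    exact Ideal.sum_mem _ fun d _ => Ideal.mul_mem_mul (h d) (mono_mem f d)

/-- the quotient by the range of `gmap` -/
noncomputable def quotGmap (n : ℕ) : ((B ⧸ Ideal.span (Set.range f) ^ (n + 1)) ⧸ LinearMap.range (gmap R f n)) ≃ₗ[R]
    (B ⧸ Ideal.span (Set.range f) ^ n) :=
  (Submodule.quotEquivOfEq _ _ (LinearMap.exact_iff.mp (exact_gmap_fac R f n)).symm).trans
    ((fac R f n).quotKerEquivOfSurjective (fac_surjective R f n))

/-- the range of `gmap` -/
noncomputable def rangeGmap (hf : CAlgX.IsQuasiRegular f) (n : ℕ) : LinearMap.range (gmap R f n) ≃ₗ[R]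
    (D c n → B ⧸ Ideal.span (Set.range f)) :=
  (gmap R f n).quotKerEquivRange.symm.trans
    ((Submodule.quotEquivOfEq _ _ (by
      ext a
      rw [LinearMap.mem_ker, ker_gmap R f hf, LinearMap.mem_ker]
      constructor
      · intro h
        funext d
        exact Ideal.Quotient.eq_zero_iff_mem.mpr (h d)
      · intro h d
        exact Ideal.Quotient.eq_zero_iff_mem.mp (congrFun h d))).trans
    ((((Ideal.Quotient.mkₐ R (Ideal.span (Set.range f))).toLinearMap.compLeft (D c n)).quotKerEquivOfSurjective (by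
      intro b
      choose a ha using fun d => Ideal.Quotient.mk_surjective (b d)
      exact ⟨a, funext ha⟩))))

theorem flat_quotient_pow (hfl : Module.Flat R (B ⧸ Ideal.span (Set.range f)))
    (hf : CAlgX.IsQuasiRegular f) (n : ℕ) : Module.Flat R (B ⧸ Ideal.span (Set.range f) ^ n) := by
  induction n with
  | zero =>
    have : Subsingleton (B ⧸ Ideal.span (Set.range f) ^ 0) := by
      rw [pow_zero, Ideal.one_eq_top]
      exact Ideal.Quotient.subsingleton_iff.mpr rfl
    infer_instance
  | succ n ih =>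
    have h0 : Module.Flat R (D c n → B ⧸ Ideal.span (Set.range f)) :=
      Module.Flat.trans R (B ⧸ Ideal.span (Set.range f)) (D c n → B ⧸ Ideal.span (Set.range f))
    have h1 : Module.Flat R (LinearMap.range (gmap R f n)) :=
      Module.Flat.of_linearEquiv (rangeGmap R f hf n)
    refine Groth.Agent.Divis.FlatExt.flat_of_exact (f := (LinearMap.range (gmap R f n)).subtype)
      (g := fac R f n) (Submodule.injective_subtype _) ?_ (fac_surjective R f n)
    intro x
    rw [exact_gmap_fac R f n x]
    constructor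
    · rintro ⟨a, rfl⟩
      exact ⟨⟨_, ⟨a, rfl⟩⟩, rfl⟩
    · rintro ⟨⟨_, ⟨a, rfl⟩⟩, rfl⟩
      exact ⟨a, rfl⟩

variable {R} (R' : Type w) [CommRing R'] [Algebra R R']

theorem one_tmul_mono (d : Fin c →₀ ℕ) :
    mono (fun i => ((1 : R') ⊗ₜ[R] f i : R' ⊗[R] B)) d = (1 : R') ⊗ₜ[R] mono f d := by
  have h := map_finsuppProd (Algebra.TensorProduct.includeRight : B →ₐ[R] R' ⊗[R] B) d (fun i k => f i ^ k)
  rw [mono, mono]
  refine Eq.trans ?_ h.symm
  refine Finsupp.prod_congr fun i _ => ?_
  rw [map_pow]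
  rfl

/-- the image of the ideal -/
theorem span_one_tmul (n : ℕ) : Ideal.span (Set.range (fun i => ((1 : R') ⊗ₜ[R] f i : R' ⊗[R] B))) ^ n =
    (Ideal.span (Set.range f) ^ n).map (Algebra.TensorProduct.includeRight : B →ₐ[R] R' ⊗[R] B) := by
  rw [Ideal.map_pow, Ideal.map_span, ← Set.range_comp]
  rfl

theorem smap_lTensor (n : ℕ) (x : R' ⊗[R] (D c n → B)) : (smap R f n).lTensor R' x =
    ∑ d, (TensorProduct.piRight R R R' (fun _ : D c n => B) x) d *
      mono (fun i => ((1 : R') ⊗ₜ[R] f i : R' ⊗[R] B)) d.1 := by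
  simp only [one_tmul_mono]
  induction x using TensorProduct.induction_on with
  | zero => simp
  | tmul r a =>
    rw [LinearMap.lTensor_tmul]
    change r ⊗ₜ[R] (∑ d : D c n, a d * mono f d.1) = _
    rw [TensorProduct.tmul_sum]
    refine Finset.sum_congr rfl fun i _ => ?_
    rw [TensorProduct.piRight_apply, TensorProduct.piRightHom_tmul, Algebra.TensorProduct.tmul_mul_tmul, mul_one]
  | add x y hx hy =>
    rw [map_add, hx, hy, map_add, ← Finset.sum_add_distrib]
    refine Finset.sum_congr rfl fun i _ => ?_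
    rw [Pi.add_apply, add_mul]

theorem mk_lTensor_eq_zero (I : Ideal B) (y : R' ⊗[R] B)
    (hy : y ∈ I.map (Algebra.TensorProduct.includeRight : B →ₐ[R] R' ⊗[R] B)) :
    (Ideal.Quotient.mkₐ R I).toLinearMap.lTensor R' y = 0 := by
  let ψ : R' ⊗[R] B →ₐ[R] R' ⊗[R] (B ⧸ I) := Algebra.TensorProduct.map (AlgHom.id R R') (Ideal.Quotient.mkₐ R I)
  have h1 : I.map (Algebra.TensorProduct.includeRight : B →ₐ[R] R' ⊗[R] B) ≤ RingHom.ker ψ := by
    rw [Ideal.map_le_iff_le_comap]
    intro b hb
    rw [Ideal.mem_comap, RingHom.mem_ker]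
    change ψ ((1 : R') ⊗ₜ[R] b) = 0
    rw [Algebra.TensorProduct.map_tmul]
    have : Ideal.Quotient.mkₐ R I b = 0 := Ideal.Quotient.eq_zero_iff_mem.mpr hb
    rw [this, TensorProduct.tmul_zero]
  exact h1 hy

theorem isQuasiRegular_baseChange (hfl : Module.Flat R (B ⧸ Ideal.span (Set.range f)))
    (hf : CAlgX.IsQuasiRegular f) : CAlgX.IsQuasiRegular (fun i => ((1 : R') ⊗ₜ[R] f i : R' ⊗[R] B)) := by
  rw [isQuasiRegular_iff]
  intro n a' ha' d
  let e := TensorProduct.piRight R R R' (fun _ : D c n => B)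
  have hfl' : Module.Flat R ((B ⧸ Ideal.span (Set.range f) ^ (n + 1)) ⧸ LinearMap.range (gmap R f n)) := by
    have := flat_quotient_pow R f hfl hf n
    exact Module.Flat.of_linearEquiv (quotGmap R f n)
  have h1 : (gmap R f n).lTensor R' (e.symm a') = 0 := by
    rw [gmap, LinearMap.lTensor_comp, LinearMap.comp_apply, smap_lTensor, LinearEquiv.apply_symm_apply]
    apply mk_lTensor_eq_zero
    rw [← span_one_tmul f R']
    exact ha'
  obtain ⟨y, hy⟩ := ker_lTensor_le (gmap R f n) R' h1
  have key : ∀ y : R' ⊗[R] (LinearMap.ker (gmap R f n)),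
      e ((LinearMap.ker (gmap R f n)).subtype.lTensor R' y) d ∈
        Ideal.span (Set.range (fun i => ((1 : R') ⊗ₜ[R] f i : R' ⊗[R] B))) := by
    intro y
    induction y using TensorProduct.induction_on with
    | zero => rw [map_zero, map_zero]; exact Submodule.zero_mem _
    | tmul r t =>
      have h2 : e ((LinearMap.ker (gmap R f n)).subtype.lTensor R' (r ⊗ₜ t)) d =
          (r ⊗ₜ[R] (1 : B)) * ((1 : R') ⊗ₜ[R] t.1 d) := by
        rw [LinearMap.lTensor_tmul]
        simp only [e, Submodule.subtype_apply, TensorProduct.piRight_apply, TensorProduct.piRightHom_tmul,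
          Algebra.TensorProduct.tmul_mul_tmul, mul_one, one_mul]
      rw [h2]
      refine Ideal.mul_mem_left _ _ ?_
      have h3 : t.1 d ∈ Ideal.span (Set.range f) := (ker_gmap R f hf n t.1).mp t.2 d
      have h4 := span_one_tmul (R := R) f R' 1
      rw [pow_one, pow_one] at h4
      rw [h4]
      exact Ideal.mem_map_of_mem _ h3
    | add x y hx hy => rw [map_add, map_add, Pi.add_apply]; exact Submodule.add_mem _ hx hy
  have h3 := key y
  rw [hy, LinearEquiv.apply_symm_apply] at h3
  exact h3

end QuasiBC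

end K472.RelSeq
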